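import Cfsg.Agent.Lib.Characters.Values
import Cfsg.Agent.Lib.Characters.Counting
import Mathlib.GroupTheory.FiniteAbelian.Duality

/-!
# A lower bound for the degree of a faithful character from a special radical subgroup
-/

set_option autoImplicit false
set_option linter.unusedSectionVars false
set_option linter.style.haveILetI false

namespace CfsgLib.TrialityDeg

open Cfsg CfsgLib.Characters
open scoped ComplexConjugate commutatorElement

universe u

theorem conj_units_val {G : Type*} [Group G] [Finite G] (f : G →* ℂˣ) (g : G) :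
    conj (f g : ℂ) = (f g⁻¹ : ℂ) := by
  have h1 : (f g : ℂ) ^ Nat.card G = 1 := by
    rw [← Units.val_pow_eq_pow_val, ← map_pow, pow_card_eq_one', map_one, Units.val_one]
  have h2 := Complex.norm_eq_one_of_pow_eq_one h1 Nat.card_pos.ne'
  rw [map_inv, Units.val_inv_eq_inv_val, Complex.inv_eq_conj h2]

theorem sum_quotient_invariant {Q : Type*} [Group Q] [Fintype Q] {M : Type*} [AddCommMonoid M]
    (Z : Subgroup Q) [Fintype (Q ⧸ Z)] (f : Q → M) (hf : ∀ x : Q, ∀ z ∈ Z, f (x * z) = f x) :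
    ∑ x, f x = Nat.card Z • ∑ c : Q ⧸ Z, f c.out := by
  classical
  rw [← Equiv.sum_comp (Subgroup.groupEquivQuotientProdSubgroup (s := Z)).symm, Fintype.sum_prod_type,
    Finset.smul_sum]
  refine Finset.sum_congr rfl fun c _ => ?_
  have h : ∀ z : Z, f ((Subgroup.groupEquivQuotientProdSubgroup (s := Z)).symm (c, z)) = f c.out := by
    intro z
    set x := (Subgroup.groupEquivQuotientProdSubgroup (s := Z)).symm (c, z) with hx
    have h1 : (Subgroup.groupEquivQuotientProdSubgroup (s := Z) x).1 = c := by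
      rw [hx, Equiv.apply_symm_apply]
    have h2 : (QuotientGroup.mk x : Q ⧸ Z) = c := h1
    have h3 : c.out⁻¹ * x ∈ Z := QuotientGroup.eq.1 (by rw [QuotientGroup.out_eq', h2])
    have := hf c.out _ h3
    rwa [mul_inv_cancel_left] at this
  simp [h, Nat.card_eq_fintype_card]

variable {G : Type u} [Group G] {k : ℕ}

section inner

variable {Q : Type u} [Group Q] [Fintype Q] (Z : Subgroup Q)

/-- The hypotheses on the special group with its centre and a character of the centre. -/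
structure Special (ψ : Z →* ℂˣ) : Prop where
  central : ∀ z ∈ Z, ∀ y : Q, Commute z y
  comm : ∀ x y : Q, ⁅x, y⁆ ∈ Z
  nondeg : ∀ y : Q, y ∉ Z → ∀ z ∈ Z, ∃ x : Q, ⁅x, y⁆ = z
  ne_one : ψ ≠ 1

variable {Z} [Fintype Z] {ψ : Z →* ℂˣ} (h : Special Z ψ)

include h

theorem Special.comm_mul_left (x x' y : Q) : ⁅x * x', y⁆ = ⁅x, y⁆ * ⁅x', y⁆ := by
  have h1 := (h.central _ (h.comm x' y) x).eq
  have h2 := (h.central _ (h.comm x' y) ⁅x, y⁆).eq
  rw [← h2]
  calc ⁅x * x', y⁆ = x * ⁅x', y⁆ * x⁻¹ * ⁅x, y⁆ := by simp only [commutatorElement_def]; group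
    _ = _ := by rw [← h1, mul_inv_cancel_right]

theorem Special.comm_mul_right (x y y' : Q) : ⁅x, y * y'⁆ = ⁅x, y⁆ * ⁅x, y'⁆ := by
  have h1 := (h.central _ (h.comm x y') y).eq
  calc ⁅x, y * y'⁆ = ⁅x, y⁆ * (y * ⁅x, y'⁆ * y⁻¹) := by simp only [commutatorElement_def]; group
    _ = _ := by rw [← h1, mul_inv_cancel_right]

omit h in
/-- The pairing of the commutator with the character. -/
noncomputable def pairHom (h : Special Z ψ) (x : Q) : Q →* ℂˣ :=
  MonoidHom.mk' (fun y => ψ ⟨⁅x, y⁆, h.comm x y⟩) fun y y' => by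
    rw [← map_mul]
    exact congrArg ψ (Subtype.ext (h.comm_mul_right x y y'))

omit h in
/-- The pairing in the other variable. -/
noncomputable def pairHom' (h : Special Z ψ) (y : Q) : Q →* ℂˣ :=
  MonoidHom.mk' (fun x => pairHom h x y) fun x x' => by
    show ψ _ = ψ _ * ψ _
    rw [← map_mul]
    exact congrArg ψ (Subtype.ext (h.comm_mul_left x x' y))

theorem Special.pair_central {z : Q} (hz : z ∈ Z) (x : Q) :
    pairHom h x z = 1 ∧ pairHom h z x = 1 := by
  constructor <;> show ψ _ = 1 <;> rw [← map_one ψ] <;> refine congrArg ψ (Subtype.ext ?_)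
  · exact commutatorElement_eq_one_iff_mul_comm.2 (h.central z hz x).eq.symm
  · exact commutatorElement_eq_one_iff_mul_comm.2 (h.central z hz x).eq

open Classical in
theorem Special.orth (y : Q) :
    ∑ x : Q, (pairHom h x y : ℂ) = if y ∈ Z then (Nat.card Q : ℂ) else 0 := by
  split_ifs with hy
  · simp [fun x => (h.pair_central hy x).1, Nat.card_eq_fintype_card]
  · obtain ⟨z, hz⟩ : ∃ z : Z, ψ z ≠ 1 := by
      by_contra hne
      push Not at hne
      exact h.ne_one (MonoidHom.ext hne)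
    obtain ⟨x, hx⟩ := h.nondeg y hy z z.2
    refine sum_hom_units_eq_zero ((Units.coeHom ℂ).comp (pairHom' h y)) fun e => hz ?_
    have h1 := DFunLike.congr_fun e x
    simp only [MonoidHom.comp_apply, Units.coeHom_apply, MonoidHom.one_apply, Units.val_eq_one] at h1
    rw [show z = ⟨⁅x, y⁆, h.comm x y⟩ from Subtype.ext hx.symm]
    exact h1

omit h in
/-- The multiplicity of a pairing character. -/
noncomputable def mpair (h : Special Z ψ) (χ : Q → ℂ) (x : Q) : ℂ :=
  classInner χ fun y => (pairHom h x y : ℂ)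

theorem Special.mpair_nat {χ : Q → ℂ} (hχ : IsCharacter Q χ) (x : Q) :
    ∃ m : ℕ, mpair h χ x = m :=
  classInner_char_nat hχ (irr_isCharacter (linearIrr (pairHom h x)))

theorem Special.mpair_mul (χ : Q → ℂ) (x : Q) {z : Q} (hz : z ∈ Z) :
    mpair h χ (x * z) = mpair h χ x := by
  unfold mpair
  congr 1
  funext y
  show ((pairHom' h y) (x * z) : ℂ) = _
  rw [map_mul]
  show ((pairHom h x y * pairHom h z y : ℂˣ) : ℂ) = _
  rw [(h.pair_central hz y).2, mul_one]

open Classical in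
theorem Special.sum_mpair_mul (χ : Q → ℂ) (y₀ : Q) :
    ∑ x : Q, mpair h χ x * (pairHom h x y₀ : ℂ) = ∑ z : Z, χ (y₀ * z) := by
  have hne : (Nat.card Q : ℂ) ≠ 0 := Nat.cast_ne_zero.2 Nat.card_pos.ne'
  calc ∑ x : Q, mpair h χ x * (pairHom h x y₀ : ℂ)
      = (Nat.card Q : ℂ)⁻¹ * ∑ y : Q, χ y * ∑ x : Q, (pairHom h x (y⁻¹ * y₀) : ℂ) := by
        simp only [mpair, classInner, conj_units_val, map_mul, Units.val_mul, Finset.mul_sum,
          Finset.sum_mul]
        rw [Finset.sum_comm]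
        exact Finset.sum_congr rfl fun y _ => Finset.sum_congr rfl fun x _ => by ring
    _ = ∑ y ∈ Finset.univ.filter (fun y : Q => y⁻¹ * y₀ ∈ Z), χ y := by
        simp only [h.orth, mul_ite, mul_zero]
        rw [← Finset.sum_filter, ← Finset.sum_mul, mul_left_comm, inv_mul_cancel₀ hne, mul_one]
    _ = _ := by
        refine (Finset.sum_bij (fun (z : Z) _ => y₀ * (z : Q)) ?_ ?_ ?_ ?_).symm
        · intro z _
          simp
        · intro z _ z' _ e
          exact Subtype.ext (mul_left_cancel e)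
        · intro y hy
          rw [Finset.mem_filter] at hy
          refine ⟨⟨y₀⁻¹ * y, ?_⟩, Finset.mem_univ _, mul_inv_cancel_left _ _⟩
          simpa using Z.inv_mem hy.2
        · intro z _
          rfl

theorem Special.sum_mpair (χ : Q → ℂ) : ∑ x : Q, mpair h χ x = ∑ z : Z, χ z := by
  simpa [fun x => (h.pair_central Z.one_mem x).1] using h.sum_mpair_mul χ 1

theorem Special.sum_mpair_sq (χ : Q → ℂ) :
    (Nat.card Q : ℂ) * ∑ x : Q, mpair h χ x * conj (mpair h χ x) =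
      ∑ y : Q, χ y * conj (∑ z : Z, χ (y * z)) := by
  have hne : (Nat.card Q : ℂ) ≠ 0 := Nat.cast_ne_zero.2 Nat.card_pos.ne'
  have h1 : ∀ x : Q, mpair h χ x * conj (mpair h χ x) =
      (Nat.card Q : ℂ)⁻¹ * ∑ y : Q, χ y * conj ((pairHom h x y : ℂ) * mpair h χ x) := by
    intro x
    conv_lhs => arg 1; rw [mpair, classInner]
    rw [mul_assoc, Finset.sum_mul]
    exact congrArg _ (Finset.sum_congr rfl fun y _ => by rw [map_mul, mul_assoc])
  simp only [h1]
  rw [← Finset.mul_sum, ← mul_assoc, mul_inv_cancel₀ hne, one_mul, Finset.sum_comm]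
  refine Finset.sum_congr rfl fun y _ => ?_
  rw [← Finset.mul_sum, ← map_sum, ← h.sum_mpair_mul χ y]
  simp only [mul_comm]

end inner

/-- The bound: `(q - 1) * q ^ N` plus the size of an invariant set of pairing characters. -/
theorem radical_bound [Finite G] (ρ : Representation ℂ G (Fin k → ℂ))
    (hirr : Function.Injective ρ) (Z Q : Subgroup G) (hZQ : Z ≤ Q) {q N B : ℕ} (hq : 2 ≤ q)
    (hZ : Nat.card Z = q) (hQ : Nat.card Q = q ^ (2 * N + 1))
    (hZc : ∀ z ∈ Z, ∀ y ∈ Q, Commute z y)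
    (hconjZ : ∀ z ∈ Z, z ≠ 1 → ∀ z' ∈ Z, z' ≠ 1 → IsConj z z')
    (hcomm : ∀ x ∈ Q, ∀ y ∈ Q, ⁅x, y⁆ ∈ Z)
    (hnd : ∀ y ∈ Q, y ∉ Z → ∀ z ∈ Z, ∃ x ∈ Q, ⁅x, y⁆ = z)
    (x₀ : G) (hx₀ : x₀ ∈ Q) (hx₀' : x₀ ∉ Z) (hx₀z : ∃ z ∈ Z, z ≠ 1 ∧ IsConj x₀ z)
    (S : Set G) (hSQ : ∀ g ∈ S, ∀ y, g * y * g⁻¹ ∈ Q ↔ y ∈ Q)
    (hSZ : ∀ g ∈ S, ∀ z ∈ Z, g * z * g⁻¹ = z)
    (horb : ∀ P : G → Prop, (∀ x ∈ Q, ∀ z ∈ Z, P x → P (x * z)) →
      (∀ g ∈ S, ∀ x ∈ Q, P x → P (g * x * g⁻¹)) → ∀ x ∈ Q, x ∉ Z → P x →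
        ∃ T : Finset G, B ≤ T.card ∧ (∀ t ∈ T, t ∈ Q ∧ P t) ∧
          ∀ t ∈ T, ∀ t' ∈ T, t⁻¹ * t' ∈ Z → t = t') :
    (q - 1) * q ^ N + B ≤ k := by
  classical
  have : Fintype G := Fintype.ofFinite G
  let χ := ρ.character
  have hcl : ∀ g x : G, χ (g * x * g⁻¹) = χ x := fun g x => ρ.char_conj x g
  have hclass : ∀ {x y : G}, IsConj x y → χ x = χ y := by
    intro x y hxy
    obtain ⟨c, rfl⟩ := isConj_iff.1 hxy
    exact (hcl c x).symm
  have hk : χ 1 = (k : ℂ) := by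
    show ρ.character 1 = _
    rw [Representation.char_one]
    simp
  -- the subgroups inside `Q`
  let ZQ : Subgroup Q := Z.subgroupOf Q
  have hZQcard : Nat.card ZQ = q := by rw [← hZ]; exact Nat.card_congr (Subgroup.subgroupOfEquivOfLe hZQ).toEquiv
  letI : CommGroup ↥ZQ :=
    { (inferInstance : Group ↥ZQ) with
      mul_comm := fun a b => Subtype.ext (Subtype.ext (hZc _ a.2 _ b.1.2).eq) }
  haveI : Nontrivial ↥ZQ := Finite.one_lt_card_iff_nontrivial.1 (by omega)
  obtain ⟨z₀, hz₀⟩ := exists_ne (1 : ↥ZQ)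
  obtain ⟨ψ, hψ⟩ := CommGroup.exists_apply_ne_one_of_hasEnoughRootsOfUnity ↥ZQ ℂ hz₀
  have h : Special ZQ ψ := by
    refine ⟨fun z hz y => ?_, fun x y => ?_, fun y hy z hz => ?_, fun e => hψ (by rw [e]; rfl)⟩
    · exact Subtype.ext (hZc _ hz _ y.2).eq
    · exact hcomm _ x.2 _ y.2
    · obtain ⟨x, hx, e⟩ := hnd _ y.2 hy _ hz
      exact ⟨⟨x, hx⟩, Subtype.ext e⟩
  let χQ : Q → ℂ := fun y => χ (y : G)
  have hχQ : IsCharacter Q χQ := ⟨k, ρ.comp Q.subtype, rfl⟩
  -- values on the centre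
  let c₀ : ℂ := χ ((z₀ : Q) : G)
  have hz₀' : ((z₀ : Q) : G) ≠ 1 := fun e => hz₀ (Subtype.ext (Subtype.ext e))
  have hval : ∀ z : ↥ZQ, z ≠ 1 → χQ z = c₀ := fun z hz => hclass (hconjZ _ z.2
    (fun e => hz (Subtype.ext (Subtype.ext e))) _ z₀.2 hz₀')
  -- multiplicity of `ψ`
  obtain ⟨m, hm⟩ : ∃ m : ℕ, classInner (fun z : ↥ZQ => χQ z) (fun z => (ψ z : ℂ)) = m :=
    classInner_char_nat ⟨k, (ρ.comp Q.subtype).comp ZQ.subtype, rfl⟩ (irr_isCharacter (linearIrr ψ))
  have hsumψ : ∑ z : ↥ZQ, (ψ z⁻¹ : ℂ) = 0 := by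
    rw [Fintype.sum_equiv (Equiv.inv ↥ZQ) (fun z => (ψ z⁻¹ : ℂ)) (fun z => (ψ z : ℂ)) fun z => rfl]
    refine sum_hom_units_eq_zero ((Units.coeHom ℂ).comp ψ) fun e => hψ ?_
    have h1 := DFunLike.congr_fun e z₀
    simpa using h1
  have hqc : (q : ℂ) ≠ 0 := Nat.cast_ne_zero.2 (by omega)
  have hone : χQ ((1 : ↥ZQ) : Q) = (k : ℂ) := hk
  have hcm : c₀ = (k : ℂ) - q * m := by
    have e : ∀ z : ↥ZQ, χQ z * conj (ψ z : ℂ) =
        c₀ * (ψ z⁻¹ : ℂ) + if z = 1 then (k : ℂ) - c₀ else 0 := by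
      intro z
      rw [conj_units_val]
      split_ifs with hz
      · subst hz
        rw [hone]; simp
      · rw [hval z hz, add_zero]
    rw [classInner, hZQcard, Finset.sum_congr rfl fun z _ => e z, Finset.sum_add_distrib,
      ← Finset.mul_sum, hsumψ, mul_zero, zero_add, Finset.sum_ite_eq' Finset.univ (1 : ↥ZQ),
      if_pos (Finset.mem_univ _), inv_mul_eq_iff_eq_mul₀ hqc] at hm
    linear_combination -hm
  have hm0 : 0 < m := by
    refine Nat.pos_of_ne_zero fun e => hz₀' ?_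
    subst e
    simp only [Nat.cast_zero, mul_zero, sub_zero] at hcm
    refine hirr ?_
    rw [map_one]
    exact (char_eq_degree_iff ρ _).1 (by rw [show ρ.character _ = c₀ from rfl, hcm]; simp)
  -- the multiplicities of the pairing characters
  choose a ha using h.mpair_nat hχQ
  have hainv : ∀ x : Q, ∀ z ∈ ZQ, a (x * z) = a x := fun x z hz =>
    Nat.cast_injective (R := ℂ) (by rw [← ha, ← ha, h.mpair_mul χQ x hz])
  let w := ∑ c : Q ⧸ ZQ, a c.out
  let A := ∑ c : Q ⧸ ZQ, a c.out ^ 2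
  have hwq : ∑ x : Q, a x = q * w := by
    rw [sum_quotient_invariant ZQ a hainv, hZQcard, smul_eq_mul]
  have hAq : ∑ x : Q, a x ^ 2 = q * A := by
    rw [sum_quotient_invariant ZQ (fun x => a x ^ 2) (fun x z hz => by rw [hainv x z hz]), hZQcard,
      smul_eq_mul]
  have hsumZ : ∑ z : ↥ZQ, χQ z = (k : ℂ) + (q - 1) * c₀ := by
    have e : ∀ z : ↥ZQ, χQ z = c₀ + if z = 1 then (k : ℂ) - c₀ else 0 := by
      intro z
      split_ifs with hz
      · subst hz
        rw [hone]; ring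
      · rw [hval z hz, add_zero]
    rw [Finset.sum_congr rfl fun z _ => e z, Finset.sum_add_distrib,
      Finset.sum_ite_eq' Finset.univ (1 : ↥ZQ), if_pos (Finset.mem_univ _), Finset.sum_const,
      Finset.card_univ, ← Nat.card_eq_fintype_card, hZQcard, nsmul_eq_mul]
    ring
  have hwk : (k : ℂ) = ((q : ℂ) - 1) * m + w := by
    have e := h.sum_mpair χQ
    simp only [ha, hsumZ, ← Nat.cast_sum, hwq] at e
    push_cast at e
    rw [hcm] at e
    refine mul_left_cancel₀ hqc ?_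
    linear_combination -e
  -- translation invariance off the centre
  have hoff : ∀ y : Q, y ∉ ZQ → ∀ z : ↥ZQ, χQ (y * z) = χQ y := by
    intro y hy z
    obtain ⟨x, hx⟩ := h.nondeg y hy z z.2
    have e : y * z = x * y * x⁻¹ := by
      rw [← (h.central _ z.2 y).eq, ← hx, commutatorElement_def]; group
    rw [e]
    exact hcl (x : G) (y : G)
  -- the square sum
  obtain ⟨M, hM⟩ := classInner_char_nat hχQ hχQ
  have hQc : Nat.card Q = q ^ (2 * N + 1) := hQ
  have hQne : (Nat.card Q : ℂ) ≠ 0 := Nat.cast_ne_zero.2 Nat.card_pos.ne'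
  have hc₀ : conj c₀ = c₀ := by rw [hcm]; simp [map_sub]
  have hsq : (Nat.card Q : ℂ) * (q * A : ℕ) =
      (q : ℂ) * ((Nat.card Q : ℂ) * M) - (q : ℂ) ^ 2 * ((q : ℂ) - 1) * m ^ 2 := by
    have e := h.sum_mpair_sq χQ
    have hA' : ∑ x : Q, (a x : ℂ) * (a x : ℂ) = ((q * A : ℕ) : ℂ) := by
      rw [← hAq, Nat.cast_sum]
      exact Finset.sum_congr rfl fun x _ => by push_cast; ring
    simp only [ha, map_natCast, hA'] at e
    rw [e]
    let T0 : ℂ := (k : ℂ) + (q - 1) * c₀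
    have hT0 : conj T0 = T0 := by simp [T0, hc₀]
    have e1 : ∀ y : Q, χQ y * conj (∑ z : ↥ZQ, χQ (y * z)) =
        (q : ℂ) * (χQ y * conj (χQ y)) +
          if y ∈ ZQ then χQ y * T0 - (q : ℂ) * (χQ y * conj (χQ y)) else 0 := by
      intro y
      split_ifs with hy
      · rw [show ∑ z : ↥ZQ, χQ (y * z) = T0 from ?_, hT0]
        · ring
        · rw [← Equiv.sum_comp (Equiv.mulLeft (⟨y, hy⟩⁻¹ : ↥ZQ))]
          refine (Finset.sum_congr rfl fun z _ => ?_).trans hsumZ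
          simp
      · rw [Finset.sum_congr rfl fun z _ => hoff y hy z, Finset.sum_const, Finset.card_univ,
          ← Nat.card_eq_fintype_card, hZQcard, nsmul_eq_mul, map_mul, map_natCast]
        ring
    rw [classInner, inv_mul_eq_iff_eq_mul₀ hQne] at hM
    rw [Finset.sum_congr rfl fun y _ => e1 y, Finset.sum_add_distrib, ← Finset.mul_sum, hM,
      ← Finset.sum_filter, Finset.sum_subtype (Finset.univ.filter fun y : Q => y ∈ ZQ)
        (p := fun y => y ∈ ZQ) (fun y => by simp)]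
    rw [Finset.sum_sub_distrib, ← Finset.sum_mul, hsumZ, ← Finset.mul_sum]
    have e2 : ∑ z : ↥ZQ, χQ z * conj (χQ z) = (k : ℂ) ^ 2 + (q - 1) * c₀ ^ 2 := by
      have e : ∀ z : ↥ZQ, χQ z * conj (χQ z) = c₀ ^ 2 + if z = 1 then (k : ℂ) ^ 2 - c₀ ^ 2 else 0 := by
        intro z
        split_ifs with hz
        · subst hz
          rw [hone, map_natCast]; ring
        · rw [hval z hz, hc₀]; ring
      rw [Finset.sum_congr rfl fun z _ => e z, Finset.sum_add_distrib,
        Finset.sum_ite_eq' Finset.univ (1 : ↥ZQ), if_pos (Finset.mem_univ _), Finset.sum_const,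
        Finset.card_univ, ← Nat.card_eq_fintype_card, hZQcard, nsmul_eq_mul]
      ring
    rw [e2]
    simp only [T0, hcm]
    ring
  have hz : ((q : ℤ) - 1) * (m : ℤ) ^ 2 = (q : ℤ) ^ (2 * N) * ((M : ℤ) - A) := by
    have e : (((q : ℤ) - 1) * (m : ℤ) ^ 2 * (q : ℤ) ^ 2 : ℤ) =
        (q : ℤ) ^ (2 * N) * ((M : ℤ) - A) * (q : ℤ) ^ 2 := by
      have := hsq
      rw [hQc] at this
      push_cast at this
      refine Int.cast_injective (α := ℂ) ?_
      push_cast
      rw [pow_succ] at this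
      linear_combination this
    exact mul_right_cancel₀ (pow_ne_zero 2 (by omega)) e
  have hdvd : q ^ N ∣ m := by
    have h1 : q ^ (2 * N) ∣ (q - 1) * m ^ 2 := by
      rw [← Int.natCast_dvd_natCast]
      push_cast [Nat.cast_sub (show 1 ≤ q by omega)]
      exact ⟨_, hz⟩
    have hco : Nat.Coprime (q ^ (2 * N)) (q - 1) := by
      refine Nat.Coprime.pow_left _ ?_
      exact (Nat.coprime_self_sub_right (by omega)).2 (Nat.coprime_one_right _)
    have h2 := hco.dvd_of_dvd_mul_left h1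
    rw [mul_comm 2 N, pow_mul] at h2
    exact (Nat.pow_dvd_pow_iff two_ne_zero).1 h2
  -- an invariant set of classes
  have hw : B ≤ w := by
    obtain ⟨x, hxZ, hxa⟩ : ∃ x : Q, x ∉ ZQ ∧ a x ≠ 0 := by
      by_contra hne
      push Not at hne
      let y₀ : Q := ⟨x₀, hx₀⟩
      have hy₀ : y₀ ∉ ZQ := hx₀'
      have e := h.sum_mpair_mul χQ y₀
      rw [Finset.sum_congr rfl fun z _ => hoff y₀ hy₀ z, Finset.sum_const, Finset.card_univ,
        ← Nat.card_eq_fintype_card, hZQcard, nsmul_eq_mul] at e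
      have e' : ∑ x : Q, mpair h χQ x * (pairHom h x y₀ : ℂ) = ∑ x : Q, mpair h χQ x := by
        refine Finset.sum_congr rfl fun x _ => ?_
        by_cases hx : x ∈ ZQ
        · rw [(h.pair_central hx y₀).2]; simp
        · rw [ha, hne x hx]; simp
      rw [e'] at e
      simp only [ha, ← Nat.cast_sum, hwq] at e
      push_cast at e
      obtain ⟨z, hz, hz1, hzc⟩ := hx₀z
      have e2 : χQ y₀ = c₀ := (hclass hzc).trans (hclass (hconjZ z hz hz1 _ z₀.2 hz₀'))
      rw [e2, hcm, hwk] at e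
      have e3 : (m : ℂ) = 0 := by
        refine mul_left_cancel₀ hqc ?_
        linear_combination e
      exact hm0.ne' (by exact_mod_cast e3)
    obtain ⟨T, hTB, hTP, hTd⟩ := horb (fun g => ∃ hg : g ∈ Q, a ⟨g, hg⟩ ≠ 0)
      (fun x hx z hz ⟨_, hax⟩ => ⟨mul_mem hx (hZQ hz), by
        rw [show (⟨x * z, mul_mem hx (hZQ hz)⟩ : Q) = ⟨x, hx⟩ * ⟨z, hZQ hz⟩ from rfl,
          hainv _ _ (show (⟨z, hZQ hz⟩ : Q) ∈ ZQ from hz)]
        exact hax⟩)
      (fun g hg x hx ⟨_, hax⟩ => ⟨(hSQ g hg x).2 hx, by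
        let σ : Q ≃ Q :=
          { toFun := fun y => ⟨g * y * g⁻¹, (hSQ g hg y).2 y.2⟩
            invFun := fun y => ⟨g⁻¹ * y * g, (hSQ g hg _).1 (by simp [mul_assoc])⟩
            left_inv := fun y => Subtype.ext (by group)
            right_inv := fun y => Subtype.ext (by group) }
        have e : mpair h χQ ⟨g * x * g⁻¹, (hSQ g hg x).2 hx⟩ = mpair h χQ ⟨x, hx⟩ := by
          rw [mpair, mpair, classInner, classInner,
            ← Equiv.sum_comp σ fun y => χQ y * conj (pairHom h ⟨g * x * g⁻¹, _⟩ y : ℂ)]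
          refine congrArg _ (Finset.sum_congr rfl fun y _ => ?_)
          congr 1
          · exact hcl g (y : G)
          · refine congrArg (fun u : ℂˣ => conj (u : ℂ)) (congrArg ψ (Subtype.ext (Subtype.ext ?_)))
            show ⁅g * x * g⁻¹, g * (y : G) * g⁻¹⁆ = ⁅x, (y : G)⁆
            rw [show ⁅g * x * g⁻¹, g * (y : G) * g⁻¹⁆ = g * ⁅x, (y : G)⁆ * g⁻¹ by
              simp only [commutatorElement_def]; group]
            exact hSZ g hg _ (hcomm x hx _ y.2)
        rw [ha, ha, Nat.cast_inj] at e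
        rwa [e]⟩)
      (x : G) x.2 hxZ ⟨x.2, hxa⟩
    let cls : {t // t ∈ T} → Q ⧸ ZQ := fun t => QuotientGroup.mk ⟨t.1, (hTP t.1 t.2).1⟩
    have hinj : Function.Injective cls := fun t t' e =>
      Subtype.ext (hTd _ t.2 _ t'.2 (QuotientGroup.eq (s := ZQ).1 e))
    calc B ≤ T.card := hTB
      _ = ∑ c ∈ Finset.univ.image cls, 1 := by
          rw [Finset.sum_const, smul_eq_mul, mul_one, Finset.card_image_of_injective _ hinj,
            Finset.card_univ, Fintype.card_coe]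
      _ ≤ ∑ c ∈ Finset.univ.image cls, a c.out := by
          refine Finset.sum_le_sum fun c hc => Nat.one_le_iff_ne_zero.2 ?_
          obtain ⟨t, -, rfl⟩ := Finset.mem_image.1 hc
          obtain ⟨_, hat⟩ := (hTP t.1 t.2).2
          obtain ⟨z, hz⟩ := QuotientGroup.mk_out_eq_mul ZQ (⟨t.1, (hTP t.1 t.2).1⟩ : Q)
          rw [show (cls t).out = _ from hz, hainv _ _ z.2]
          exact hat
      _ ≤ w := Finset.sum_le_sum_of_subset (Finset.subset_univ _)
  have hkN : k = (q - 1) * m + w := by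
    refine Nat.cast_injective (R := ℂ) ?_
    rw [hwk]
    push_cast [Nat.cast_sub (show 1 ≤ q by omega)]
    ring
  have := Nat.mul_le_mul_left (q - 1) (Nat.le_of_dvd hm0 hdvd)
  omega

end CfsgLib.TrialityDeg
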