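import Cfsg.Agent.Lib.TrialityDeg.Fixed
import Cfsg.Agent.Lib.TrialityDeg.Radical

/-!
The smallest degree of a nontrivial representation of ³D₄(q).
-/

set_option autoImplicit false
set_option linter.unusedSectionVars false

namespace CfsgLib.TrialityDeg

open Cfsg Cfsg.Lie CfsgLib.ChevStr CfsgLib.Twisted CfsgLib.Characters
open scoped MatrixGroups commutatorElement

theorem not_dvd_order {q : ℕ} (hq : 2 ≤ q) :
    ¬ q ^ 4 + q ^ 3 + 1 ∣ q ^ 12 * (q ^ 2 - 1) * (q ^ 6 - 1) * (q ^ 8 + q ^ 4 + 1) := by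
  intro h
  have hco : Nat.Coprime (q ^ 4 + q ^ 3 + 1) (q ^ 12) := by
    refine Nat.Coprime.pow_right _ ?_
    rw [show q ^ 4 + q ^ 3 + 1 = 1 + q * (q ^ 3 + q ^ 2) by ring]
    simp
  rw [mul_assoc, mul_assoc] at h
  have h' := hco.dvd_of_dvd_mul_left h
  rcases Nat.lt_or_ge q 6 with h6 | h6
  · interval_cases q <;> norm_num at h'
  · have h1 : 1 ≤ q ^ 2 := Nat.one_le_pow _ _ (by omega)
    have h2 : 1 ≤ q ^ 6 := Nat.one_le_pow _ _ (by omega)
    rw [← Int.natCast_dvd_natCast] at h'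
    push_cast [Nat.cast_sub h1, Nat.cast_sub h2] at h'
    obtain ⟨x, hx⟩ : ∃ x : ℤ, x = (q : ℤ) := ⟨_, rfl⟩
    rw [← hx] at h'
    have hd : x ^ 4 + x ^ 3 + 1 ∣ 6 * x ^ 3 + 2 * x ^ 2 - 4 * x + 5 := by
      have e : 6 * x ^ 3 + 2 * x ^ 2 - 4 * x + 5 =
          (x ^ 4 + x ^ 3 + 1) * (6 - 4 * x + x ^ 2 - x ^ 4 + 3 * x ^ 5 - 3 * x ^ 6 + x ^ 7 - x ^ 11 + x ^ 12) -
            (x ^ 2 - 1) * ((x ^ 6 - 1) * (x ^ 8 + x ^ 4 + 1)) := by ring
      rw [e]
      exact dvd_sub (Dvd.intro _ rfl) h'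
    have hx6 : 6 ≤ x := by rw [hx]; exact_mod_cast h6
    have h3 := Int.le_of_dvd (by nlinarith [pow_pos (show 0 < x by omega) 3]) hd
    nlinarith [mul_le_mul_of_nonneg_left hx6 (pow_nonneg (show 0 ≤ x by omega) 3),
      mul_le_mul_of_nonneg_left hx6 (pow_nonneg (show 0 ≤ x by omega) 2)]

variable {K : Type*} [Field K] [Fintype K] {p n : ℕ} [ExpChar K p]
  (hn : Fintype.card K = (p ^ n) * (p ^ n) * (p ^ n)) (hq : 2 ≤ p ^ n)

include hn hq

theorem normalising {g : GL chevD4.Idx K} (hg : g ∈ (frobD4 K p n).fixedSub)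
    (hmem : ∀ y ∈ (coreD4 K).Ucl SQ, g * y * g⁻¹ ∈ (coreD4 K).Ucl SQ) :
    ∀ y, g * y * g⁻¹ ∈ radGrp K p n ↔ y ∈ radGrp K p n := by
  have h1 : ∀ y ∈ radGrp K p n, g * y * g⁻¹ ∈ radGrp K p n := fun y hy =>
    Subgroup.mem_inf.2
      ⟨hmem y (Subgroup.mem_inf.1 hy).1, mul_mem (mul_mem hg (Subgroup.mem_inf.1 hy).2) (inv_mem hg)⟩
  haveI : Finite ↥(radGrp K p n) := Subtype.finite
  have hinj : Function.Injective
      (fun y : ↥(radGrp K p n) => (⟨g * y * g⁻¹, h1 y y.2⟩ : ↥(radGrp K p n))) := fun a b e =>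
    Subtype.ext (mul_left_cancel (mul_right_cancel (congrArg Subtype.val e)))
  refine fun y => ⟨fun hy => ?_, h1 y⟩
  obtain ⟨y', e⟩ := (Finite.injective_iff_surjective.1 hinj) ⟨_, hy⟩
  rw [show y = (y' : GL chevD4.Idx K) from (mul_left_cancel (mul_right_cancel (congrArg Subtype.val e))).symm]
  exact y'.2

omit hq in
theorem pow_unit_of_fix {v : K} (hv0 : v ≠ 0) (hv : v ^ p ^ n = v) : Units.mk0 v hv0 ^ p ^ n = Units.mk0 v hv0 :=
  Units.ext (by simpa using hv)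

theorem zen_conj {w w' : K} (hw : w ^ p ^ n = w) (hw0 : w ≠ 0) (hw' : w' ^ p ^ n = w') (hw'0 : w' ≠ 0) :
    ∃ c ∈ twistedD4 K (p ^ n), c * (coreD4 K).xGL 23 w * c⁻¹ = (coreD4 K).xGL 23 w' := by
  have hd : (w' / w) ^ p ^ n = w' / w := by rw [div_pow, hw, hw']
  have hd0 : w' / w ≠ 0 := div_ne_zero hw'0 hw0
  refine ⟨_, torPar_mem hn 1 (Units.mk0 _ hd0) (pow_unit_of_fix hn hd0 hd), ?_⟩
  rw [show (coreD4 K).xGL 23 w = (coreD4 K).xGL (⟨23, by decide⟩ : Fin chevD4.nroots) w from rfl,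
    (coreD4 K).acts_torus _ _ w]
  show (coreD4 K).xGL 23 _ = _
  congr 1
  rw [(torPar_char (p := p) (n := n) 1 (Units.mk0 _ hd0)).2.2.2.2, Units.val_mk0, div_mul_cancel₀ _ hw0]

theorem rad_nondeg {y : GL chevD4.Idx K} (hy : y ∈ radGrp K p n) (hy' : y ∉ zenGrp K p n) {w : K}
    (hw : w ^ p ^ n = w) : ∃ x ∈ radGrp K p n, ⁅x, y⁆ = (coreD4 K).xGL 23 w := by
  obtain ⟨r16, r15, r20, r21, r14, r22⟩ := cr_rel hy
  have hyU := (Subgroup.mem_inf.1 hy).1
  obtain ⟨⟨a1, a2, a3⟩, b1, b2, b3⟩ := triple_facts.2.2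
  have hK : Fintype.card K = (p ^ n) ^ 3 := by rw [hn]; ring
  have hadd := fun x y : K => frob_add (p := p) (n := n) x y
  have hmul : ∀ a ∈ (coreD4 K).Ucl SQ, ∀ b ∈ (coreD4 K).Ucl SQ, ∀ u v : K,
      ⁅a, y⁆ = (coreD4 K).xGL 23 u → ⁅b, y⁆ = (coreD4 K).xGL 23 v →
      ⁅a * b, y⁆ = (coreD4 K).xGL 23 (u + v) := by
    intro a ha b hb u v ea eb
    rw [show ⁅a * b, y⁆ = a * ⁅b, y⁆ * a⁻¹ * ⁅a, y⁆ by simp only [commutatorElement_def]; group,
      eb, ea, ← (x23_comm_Ucl v ha).eq, mul_inv_cancel_right, ← (coreD4 K).xGL_add, add_comm]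
  have hpair : ∀ (r₁ r₂ r₃ : ℕ) (z : ℤ) (s₁ s₂ s₃ : ℕ) (v₁ v₂ v₃ : K),
      (r₁, s₁, z) ∈ ([(14, 22, 1), (22, 14, -1), (19, 17, -1), (16, 20, -1), (15, 21, -1),
        (17, 19, 1), (20, 16, 1), (21, 15, 1)] : List (ℕ × ℕ × ℤ)) →
      (r₂, s₂, z) ∈ ([(14, 22, 1), (22, 14, -1), (19, 17, -1), (16, 20, -1), (15, 21, -1),
        (17, 19, 1), (20, 16, 1), (21, 15, 1)] : List (ℕ × ℕ × ℤ)) →
      (r₃, s₃, z) ∈ ([(14, 22, 1), (22, 14, -1), (19, 17, -1), (16, 20, -1), (15, 21, -1),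
        (17, 19, 1), (20, 16, 1), (21, 15, 1)] : List (ℕ × ℕ × ℤ)) →
      r₁ ∈ radL → r₂ ∈ radL → r₃ ∈ radL →
      ⁅(coreD4 K).wordGL [(r₁, v₁), (r₂, v₂), (r₃, v₃)], y⁆ =
        (coreD4 K).xGL 23 ((z : K) * (v₁ * cr K s₁ y + v₂ * cr K s₂ y + v₃ * cr K s₃ y)) := by
    intro r₁ r₂ r₃ z s₁ s₂ s₃ v₁ v₂ v₃ h1 h2 h3 m1 m2 m3
    simp only [ChevCore.wordGL_cons, ChevCore.wordGL_nil, mul_one]
    rw [hmul _ ((coreD4 K).xGL_mem_Ucl m1 _) _
      (mul_mem ((coreD4 K).xGL_mem_Ucl m2 _) ((coreD4 K).xGL_mem_Ucl m3 _)) _ _ (comm_pair' h1 v₁ hyU)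
      (hmul _ ((coreD4 K).xGL_mem_Ucl m2 _) _ ((coreD4 K).xGL_mem_Ucl m3 _) _ _ (comm_pair' h2 v₂ hyU)
        (comm_pair' h3 v₃ hyU))]
    congr 1
    ring
  by_cases he : cr K 14 y = 0
  · by_cases hf : cr K 22 y = 0
    · by_cases hb : cr K 17 y = 0
      · by_cases hs : cr K 19 y = 0
        · exact absurd (mem_zen hy he hs hb hf) hy'
        · obtain ⟨v, hv⟩ := exists_tr_eq hK hq hadd hs hw
          refine ⟨bEl (p := p) (n := n) v, bEl_mem hn v, ?_⟩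
          rw [bEl, hpair 17 20 21 1 19 16 15 _ _ _ (by simp) (by simp) (by simp) (by simp [radL])
            (by simp [radL]) (by simp [radL]), r16, r15]
          congr 1
          rw [← hv, tr, frob_sq, mul_pow, mul_pow]
          push_cast; ring
      · obtain ⟨v, hv⟩ := exists_tr_eq hK hq hadd hb (w := -w) (by rw [frob_neg, hw])
        refine ⟨sEl (p := p) (n := n) v, sEl_mem hn v, ?_⟩
        rw [sEl, hpair 19 16 15 (-1) 17 20 21 _ _ _ (by simp) (by simp) (by simp) (by simp [radL])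
          (by simp [radL]) (by simp [radL]), r20, r21]
        congr 1
        rw [← neg_neg w, ← hv, tr, frob_sq, mul_pow, mul_pow]
        push_cast; ring
    · refine ⟨(coreD4 K).xGL 14 (w / cr K 22 y),
        x_mem_rad a1 a2 a3 (by simp [radL]) (by rw [div_pow, hw, r22]), ?_⟩
      rw [comm_pair' (z := 1) (s := 22) (by simp) _ hyU, Int.cast_one, one_mul, div_mul_cancel₀ _ hf]
  · refine ⟨(coreD4 K).xGL 22 (-w / cr K 14 y),
      x_mem_rad b1 b2 b3 (by simp [radL]) (by rw [div_pow, frob_neg, hw, r14]), ?_⟩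
    rw [comm_pair' (z := -1) (s := 14) (by simp) _ hyU, Int.cast_neg, Int.cast_one, neg_one_mul,
      neg_mul, div_mul_cancel₀ _ he, neg_neg]

theorem degree_lower {k : ℕ} (ρ : Representation ℂ ↥(twistedD4 K (p ^ n)) (Fin k → ℂ))
    (hinj : Function.Injective ρ) :
    (p ^ n - 1) * (p ^ n) ^ 4 + (p ^ n - 1) * ((p ^ n) ^ 3 + 1) ≤ k := by
  classical
  let G := twistedD4 K (p ^ n)
  have hQG : radGrp K p n ≤ G := rad_le_twisted hn hq
  have hZG : zenGrp K p n ≤ G := zen_le_rad.trans hQG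
  have hfix : G ≤ (frobD4 K p n).fixedSub := le_fixedD4 K hn
  have hK : Fintype.card K = (p ^ n) ^ 3 := by rw [hn]; ring
  haveI : Finite ↥G := Subtype.finite
  let S : Set ↥G := {g | (∀ y, (g : GL chevD4.Idx K) * y * (g : GL chevD4.Idx K)⁻¹ ∈ radGrp K p n ↔
    y ∈ radGrp K p n) ∧ ∀ z ∈ zenGrp K p n, (g : GL chevD4.Idx K) * z * (g : GL chevD4.Idx K)⁻¹ = z}
  obtain ⟨hnU, ε₁, ε₂, hε₁, hε₂, hncr⟩ := nLeaf_spec (K := K)
  have hcomm23 : ∀ {g : GL chevD4.Idx K}, (∀ w, Commute ((coreD4 K).xGL 23 w) g) →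
      ∀ z ∈ zenGrp K p n, g * z * g⁻¹ = z := by
    intro g h z hz
    obtain ⟨w, -, rfl⟩ := mem_zen_iff.1 hz
    rw [← (h w).eq, mul_inv_cancel_right]
  have leafS : ∀ t : K, (⟨_, leaf_mem hn t⟩ : ↥G) ∈ S := fun t =>
    ⟨normalising hn hq (hfix (leaf_mem hn t)) (fun y hy => leafA_conj_mem _ _ _ hy),
      hcomm23 fun w => by
        show Commute _ (leafA t _ _)
        rw [leafA_eq]
        exact (x23_comm (by simp) _ w).mul_right ((x23_comm (by simp) _ w).mul_right (x23_comm (by simp) _ w))⟩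
  have torS : ∀ u : Kˣ, (⟨_, torPar_mem hn u 1 (one_pow _)⟩ : ↥G) ∈ S := fun u =>
    ⟨normalising hn hq (hfix (torPar_mem hn u 1 (one_pow _))) (fun y hy => torus_conj_mem _ hy),
      fun z hz => by
        obtain ⟨w, -, rfl⟩ := mem_zen_iff.1 hz
        show (coreD4 K).R.torus _ * (coreD4 K).xGL 23 w * ((coreD4 K).R.torus _)⁻¹ = _
        rw [show (coreD4 K).xGL 23 w = (coreD4 K).xGL (⟨23, by decide⟩ : Fin chevD4.nroots) w from rfl,
          (coreD4 K).acts_torus _ _ w, (torPar_char (p := p) (n := n) u 1).2.2.2.2, Units.val_one, one_mul]⟩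
  have nS' : (⟨_, nLeaf_mem hn⟩ : ↥G) ∈ S :=
    ⟨normalising hn hq (hfix (nLeaf_mem hn)) hnU, hcomm23 fun w => x23_comm_nLeaf w⟩
  refine radical_bound ρ hinj ((zenGrp K p n).subgroupOf G) ((radGrp K p n).subgroupOf G)
    (fun g hg => zen_le_rad hg) (q := p ^ n) (N := 4) hq
    ((Nat.card_congr (Subgroup.subgroupOfEquivOfLe hZG).toEquiv).trans (card_zen hn hq))
    ((Nat.card_congr (Subgroup.subgroupOfEquivOfLe hQG).toEquiv).trans (card_rad hn hq))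
    (fun z hz y hy => ?_) (fun z hz hz1 z' hz' hz1' => ?_) (fun x hx y hy => ?_) (fun y hy hy' z hz => ?_)
    ⟨(coreD4 K).xGL 22 1, hQG (x_mem_rad triple_facts.2.2.2.1 triple_facts.2.2.2.2.1
      triple_facts.2.2.2.2.2 (by simp [radL]) (one_pow _))⟩
    (x_mem_rad triple_facts.2.2.2.1 triple_facts.2.2.2.2.1
      triple_facts.2.2.2.2.2 (by simp [radL]) (one_pow _))
    (fun h => ?_) ?_ S (fun g hg y => hg.1 y) (fun g hg z hz => Subtype.ext (hg.2 z hz)) ?_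
  · obtain ⟨w, -, hw⟩ := mem_zen_iff.1 (Subgroup.mem_subgroupOf.1 hz)
    refine Subtype.ext ?_
    have h := (x23_comm_Ucl w (Subgroup.mem_inf.1 (Subgroup.mem_subgroupOf.1 hy)).1).eq
    rw [← hw] at h
    exact h
  · obtain ⟨w, hw, e⟩ := mem_zen_iff.1 (Subgroup.mem_subgroupOf.1 hz)
    obtain ⟨w', hw', e'⟩ := mem_zen_iff.1 (Subgroup.mem_subgroupOf.1 hz')
    obtain ⟨c, hc, hcw⟩ := zen_conj hn hq hw
      (fun h0 => hz1 (Subtype.ext (by rw [e, h0, (coreD4 K).xGL_zero]; rfl))) hw'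
      (fun h0 => hz1' (Subtype.ext (by rw [e', h0, (coreD4 K).xGL_zero]; rfl)))
    refine isConj_iff.2 ⟨⟨c, hc⟩, Subtype.ext ?_⟩
    show c * (z : GL chevD4.Idx K) * c⁻¹ = z'
    rw [e, e', hcw]
  · refine Subgroup.mem_subgroupOf.2 ⟨?_, ?_⟩
    · exact comm_mem_centre (Subgroup.mem_inf.1 (Subgroup.mem_subgroupOf.1 hx)).1
        (Subgroup.mem_inf.1 (Subgroup.mem_subgroupOf.1 hy)).1
    · show ((⁅x, y⁆ : ↥G) : GL chevD4.Idx K) ∈ (frobD4 K p n).fixedSub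
      exact hfix (Subtype.mem _)
  · obtain ⟨w, hw, e⟩ := mem_zen_iff.1 (Subgroup.mem_subgroupOf.1 hz)
    obtain ⟨x, hx, hxy⟩ := rad_nondeg hn hq (Subgroup.mem_subgroupOf.1 hy) hy' hw
    refine ⟨⟨x, hQG hx⟩, hx, Subtype.ext ?_⟩
    rw [e, ← hxy]
    rfl
  · have h0 := zen_coords (r := 22) (Subgroup.mem_subgroupOf.1 h) (by decide)
    rw [show (((⟨(coreD4 K).xGL 22 1, _⟩ : ↥G)) : GL chevD4.Idx K) = (coreD4 K).xGL 22 1 from rfl,
      cr_x (by decide) (by simp [radL]), if_pos rfl] at h0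
    exact one_ne_zero h0
  · obtain ⟨μ, hμ, e⟩ := nMid_spec (K := K)
    have hm := mul_mem (mul_mem (nMid_mem hn) (hQG (x_mem_rad (p := p) (n := n) triple_facts.2.2.2.1
      triple_facts.2.2.2.2.1 triple_facts.2.2.2.2.2 (by simp [radL]) (one_pow _)))) (inv_mem (nMid_mem hn))
    rw [e] at hm
    have hμq : μ ^ p ^ n = μ := (gensD4 K hn hq).fixed_param fixedRoot23 hm
    refine ⟨⟨_, hm⟩, mem_zen_iff.2 ⟨μ, hμq, rfl⟩, fun h => hμ ?_, ?_⟩
    · exact ((coreD4 K).xGL_eq_one_iff (by decide)).1 (congrArg Subtype.val h)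
    · exact isConj_iff.2 ⟨⟨_, nMid_mem hn⟩, Subtype.ext e⟩
  · intro P hPZ hPS x hx hx' hPx
    let P' : K → K → K → K → Prop := fun e s b f => ∃ g : ↥G, (g : GL chevD4.Idx K) ∈ radGrp K p n ∧
      P g ∧ cr K 14 (g : GL chevD4.Idx K) = e ∧ cr K 19 (g : GL chevD4.Idx K) = s ∧
      cr K 17 (g : GL chevD4.Idx K) = b ∧ cr K 22 (g : GL chevD4.Idx K) = f
    have step : ∀ g : ↥G, g ∈ S → ∀ x : ↥G, (x : GL chevD4.Idx K) ∈ radGrp K p n → P x →
        ((g * x * g⁻¹ : ↥G) : GL chevD4.Idx K) ∈ radGrp K p n ∧ P (g * x * g⁻¹) := fun g hg x hx hP =>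
      ⟨(hg.1 (x : GL chevD4.Idx K)).2 hx, hPS g hg x hx hP⟩
    obtain ⟨T, hT, hTP⟩ := orbit_bound hK hq P'
      (fun t e s b f ⟨g, hg, hP, e1, e2, e3, e4⟩ => by
        obtain ⟨m, hP'⟩ := step _ (leafS t) g hg hP
        obtain ⟨c1, c2, c3, c4⟩ := leafA_coords t (t ^ p ^ n) (t ^ (p ^ n) ^ 2) (Subgroup.mem_inf.1 hg).1
        obtain ⟨r16, r15, r20, r21, -, -⟩ := cr_rel hg
        refine ⟨_, ⟨_, m, hP', c1.trans e1, ?_, rfl, ?_⟩, fun hs => ?_⟩
        · exact c2.trans (by rw [e1, e2]; ring)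
        · refine c4.trans ?_
          rw [r16, r15, r20, r21, e1, e2, e3, e4]
          simp only [lastA, tr, nm, frob_sq, mul_pow, frob_cube hn]
          ring
        · refine c3.trans ?_
          rw [r16, r15, e1, e2, e3, hs, zero_pow (by omega), zero_pow (by omega)]
          ring)
      (fun u e s b f ⟨g, hg, hP, e1, e2, e3, e4⟩ => by
        obtain ⟨m, hP'⟩ := step _ (torS u) g hg hP
        obtain ⟨x14, x19, x17, x22, -⟩ := torPar_char (p := p) (n := n) u 1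
        have hU := (Subgroup.mem_inf.1 hg).1
        refine ⟨_, m, hP', ?_, ?_, ?_, ?_⟩
        · refine (cr_torus _ (by decide) hU).trans ?_
          rw [x14, e1, Units.val_one, one_pow]; ring
        · refine (cr_torus _ (by decide) hU).trans ?_
          rw [x19, e2, Units.val_one, one_mul]; ring
        · refine (cr_torus _ (by decide) hU).trans ?_
          rw [x17, e3]; ring
        · refine (cr_torus _ (by decide) hU).trans ?_
          rw [x22, e4, Units.val_one, div_one]; ring)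
      ε₁ ε₂ hε₁ hε₂
      (fun e s b f ⟨g, hg, hP, e1, e2, e3, e4⟩ => by
        obtain ⟨m, hP'⟩ := step _ nS' g hg hP
        obtain ⟨d1, d2⟩ := hncr _ (Subgroup.mem_inf.1 hg).1
        exact ⟨_, _, _, m, hP', d2.trans (by rw [e4]), rfl, rfl, d1.trans (by rw [e1])⟩)
      (fun e s b f ⟨g, hg, hP, e1, e2, e3, e4⟩ => by
        obtain ⟨-, -, -, -, h14, h22⟩ := cr_rel hg
        exact ⟨e1 ▸ h14, e4 ▸ h22⟩)
      (⟨x, hx, hPx, rfl, rfl, rfl, rfl⟩ : P' _ _ _ _)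
      (by
        by_contra hne
        push Not at hne
        exact hx' (mem_zen hx hne.1 hne.2.1 hne.2.2.1 hne.2.2.2))
    choose g hg using fun v : {v // v ∈ T} => hTP v.1 v.2
    refine ⟨Finset.univ.image g, ?_, fun t ht => ?_, fun t ht t' ht' hz => ?_⟩
    · refine hT.trans (le_of_eq ?_)
      rw [Finset.card_image_of_injective, Finset.card_univ, Fintype.card_coe]
      intro v v' e
      obtain ⟨-, -, a1, a2, a3, a4⟩ := hg v
      obtain ⟨-, -, b1, b2, b3, b4⟩ := hg v'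
      rw [e] at a1 a2 a3 a4
      exact Subtype.ext (Prod.ext (a1.symm.trans b1) (Prod.ext (a2.symm.trans b2)
        (Prod.ext (a3.symm.trans b3) (a4.symm.trans b4))))
    · obtain ⟨v, -, rfl⟩ := Finset.mem_image.1 ht
      exact ⟨(hg v).1, (hg v).2.1⟩
    · obtain ⟨v, -, rfl⟩ := Finset.mem_image.1 ht
      obtain ⟨v', -, rfl⟩ := Finset.mem_image.1 ht'
      have hc : ∀ r ∈ radQ, cr K r (g v : GL chevD4.Idx K) = cr K r (g v' : GL chevD4.Idx K) := by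
        intro r hr
        have h := zen_coords (Subgroup.mem_subgroupOf.1 hz) hr
        have h' : cr K r ((g v : GL chevD4.Idx K)⁻¹ * (g v' : GL chevD4.Idx K)) = 0 := h
        rw [cr_mul hr (inv_mem (Subgroup.mem_inf.1 (hg v).1).1) (Subgroup.mem_inf.1 (hg v').1).1,
          cr_inv hr (Subgroup.mem_inf.1 (hg v).1).1] at h'
        linear_combination -h'
      obtain ⟨-, -, a1, a2, a3, a4⟩ := hg v
      obtain ⟨-, -, b1, b2, b3, b4⟩ := hg v'
      have hvv : v = v' := Subtype.ext (Prod.ext (a1.symm.trans ((hc 14 (by decide)).trans b1))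
        (Prod.ext (a2.symm.trans ((hc 19 (by decide)).trans b2))
          (Prod.ext (a3.symm.trans ((hc 17 (by decide)).trans b3))
            (a4.symm.trans ((hc 22 (by decide)).trans b4)))))
      rw [hvv]

theorem rep_injective {k : ℕ} (ρ : Representation ℂ ↥(twistedD4 K (p ^ n)) (Fin k → ℂ))
    (hirr : ρ.IsIrreducible) (hk : 2 ≤ k) : Function.Injective ρ := by
  haveI := (isSimpleD4 K hn hq).1
  let f := MonoidHom.toHomUnits ρ
  have hf : ∀ g, (f g : Module.End ℂ (Fin k → ℂ)) = ρ g := fun g => rfl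
  rcases Subgroup.Normal.eq_bot_or_eq_top (MonoidHom.normal_ker f) with h | h
  · intro a b e
    exact (MonoidHom.ker_eq_bot_iff f).1 h (Units.ext e)
  · exfalso
    obtain ⟨-, hsub⟩ := (isIrreducible_iff ρ).1 hirr
    let v : Fin k → ℂ := Pi.single ⟨0, by omega⟩ 1
    have hv : v ≠ 0 := by simp [v]
    rcases hsub (Submodule.span ℂ {v}) (fun g w hw => by
      have h1 : ρ g = 1 := by
        rw [← hf, show f g = 1 from MonoidHom.mem_ker.1 (h ▸ Subgroup.mem_top g)]; rfl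
      rw [h1]; exact hw) with h1 | h1
    · exact hv (Submodule.span_singleton_eq_bot.1 h1)
    · have h2 := finrank_span_singleton (K := ℂ) hv
      rw [h1, finrank_top, Module.finrank_fin_fun] at h2
      omega

/-- The smallest degree. -/
theorem degree_bound {k : ℕ} (ρ : Representation ℂ ↥(twistedD4 K (p ^ n)) (Fin k → ℂ))
    (hirr : ρ.IsIrreducible) (hk : 2 ≤ k) :
    p ^ n * ((p ^ n) ^ 4 - (p ^ n) ^ 2 + 1) ≤ k := by
  have hlow := degree_lower hn hq ρ (rep_injective hn hq ρ hirr hk)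
  haveI : Finite ↥(twistedD4 K (p ^ n)) := Subtype.finite
  haveI := hirr
  have hdvd := degree_dvd_card ρ
  rw [Module.finrank_fin_fun, card_twistedD4 K hn hq] at hdvd
  generalize p ^ n = q at *
  have h1 : q ^ 2 ≤ q ^ 4 := Nat.pow_le_pow_right (by omega) (by norm_num)
  have e : q * (q ^ 4 - q ^ 2 + 1) = (q - 1) * q ^ 4 + (q - 1) * (q ^ 3 + 1) + 1 := by
    zify [h1, show 1 ≤ q by omega]
    ring
  rcases Nat.lt_or_ge ((q - 1) * q ^ 4 + (q - 1) * (q ^ 3 + 1)) k with hlt | hge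
  · omega
  · exfalso
    have hk' : k = (q - 1) * (q ^ 4 + q ^ 3 + 1) := le_antisymm (hge.trans (le_of_eq (by ring)))
      (le_trans (le_of_eq (by ring)) hlow)
    exact not_dvd_order hq ((Dvd.intro_left _ hk'.symm).trans hdvd)

end CfsgLib.TrialityDeg
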