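import Mathlib.FieldTheory.Finite.Basic
import Mathlib.RingTheory.IntegralDomain
import Mathlib.Algebra.Polynomial.Roots

/-!
# Sets of vectors invariant under the Levi factor of the radical parabolic of ³D₄, in coordinates
-/

set_option autoImplicit false
set_option linter.unusedSectionVars false

namespace CfsgLib.TrialityDeg

variable {K : Type*} [Field K]

/-- The trace from the field of order `q ^ 3`. -/
def tr (q : ℕ) (v : K) : K := v + v ^ q + v ^ (q ^ 2)

/-- The norm from the field of order `q ^ 3`. -/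
def nm (q : ℕ) (v : K) : K := v * v ^ q * v ^ (q ^ 2)

/-- The last coordinate after the action of a root element. -/
def lastA (q : ℕ) (e s b f t : K) : K :=
  f - tr q (b * t) + tr q (s * (t ^ q * t ^ (q ^ 2))) - e * nm q t

variable [Fintype K] {q : ℕ} (hK : Fintype.card K = q ^ 3) (hq : 2 ≤ q)

include hK hq

theorem exists_poly_eval_ne (P : Polynomial K) (hP : P ≠ 0) (hdeg : P.natDegree < q ^ 3) :
    ∃ t : K, P.eval t ≠ 0 := by
  by_contra h
  push Not at h
  exact hP (Polynomial.eq_zero_of_natDegree_lt_card_of_eval_eq_zero P (f := id) Function.injective_id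
    h (by rwa [hK]))

theorem exists_lastA_ne {s b : K} (h : b ≠ 0 ∨ s ≠ 0) : ∃ t : K, lastA q 0 s b 0 t ≠ 0 := by
  classical
  let P : Polynomial K := -(Polynomial.monomial 1 b + Polynomial.monomial q (b ^ q) +
      Polynomial.monomial (q ^ 2) (b ^ (q ^ 2))) +
    (Polynomial.monomial (q + q ^ 2) s + Polynomial.monomial (q ^ 2 + 1) (s ^ q) +
      Polynomial.monomial (1 + q) (s ^ (q ^ 2)))
  have h1 : q < q ^ 2 := by nlinarith
  have h2 : q + q ^ 2 < q ^ 3 := by nlinarith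
  have hP0 : P ≠ 0 := by
    intro hP
    have n1 : ∀ i ∈ [q, q ^ 2, q + q ^ 2, q ^ 2 + 1, 1 + q], i ≠ 1 := by
      intro i hi
      simp only [List.mem_cons, List.not_mem_nil, or_false] at hi
      omega
    rcases eq_or_ne b 0 with rfl | hb
    · have hc := congrArg (fun p => Polynomial.coeff p (q + q ^ 2)) hP
      simp only [P, map_zero, zero_pow (show q ≠ 0 by omega), zero_pow (show q ^ 2 ≠ 0 by positivity),
        Polynomial.coeff_add, Polynomial.coeff_neg, Polynomial.coeff_monomial, Polynomial.coeff_zero,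
        if_neg (show q ^ 2 + 1 ≠ q + q ^ 2 by omega), if_neg (show 1 + q ≠ q + q ^ 2 by omega),
        if_pos (Eq.refl (q + q ^ 2)), add_zero, neg_zero, zero_add] at hc
      simp_all
    · have hc := congrArg (fun p => Polynomial.coeff p 1) hP
      simp only [P, Polynomial.coeff_add, Polynomial.coeff_neg, Polynomial.coeff_monomial,
        Polynomial.coeff_zero, if_neg (n1 q (by simp)), if_neg (n1 (q ^ 2) (by simp)),
        if_neg (n1 (q + q ^ 2) (by simp)), if_neg (n1 (q ^ 2 + 1) (by simp)),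
        if_neg (n1 (1 + q) (by simp)), if_true, add_zero] at hc
      exact hb (neg_eq_zero.1 hc)
  obtain ⟨t, ht⟩ := exists_poly_eval_ne hK hq P hP0 (by
    have e : ∀ (i : ℕ) (c : K), i ≤ q + q ^ 2 → (Polynomial.monomial i c).natDegree ≤ q + q ^ 2 :=
      fun i c hi => (Polynomial.natDegree_monomial_le c).trans hi
    have : P.natDegree ≤ q + q ^ 2 := by
      refine (Polynomial.natDegree_add_le _ _).trans (max_le ?_ ?_)
      · rw [Polynomial.natDegree_neg]
        refine (Polynomial.natDegree_add_le _ _).trans (max_le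
          ((Polynomial.natDegree_add_le _ _).trans (max_le (e _ _ ?_) (e _ _ ?_))) (e _ _ ?_)) <;>
          omega
      · refine (Polynomial.natDegree_add_le _ _).trans (max_le
          ((Polynomial.natDegree_add_le _ _).trans (max_le (e _ _ ?_) (e _ _ ?_))) (e _ _ ?_)) <;>
          omega
    omega)
  refine ⟨t, fun h0 => ht ?_⟩
  rw [← h0]
  have hpow : ∀ x : K, (x ^ (q ^ 2)) ^ q = x := fun x => by
    rw [← pow_mul, show q ^ 2 * q = Fintype.card K by rw [hK]; ring, FiniteField.pow_card]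
  have hpow2 : ∀ x : K, (x ^ q) ^ (q ^ 2) = x := fun x => by
    rw [← pow_mul, show q * q ^ 2 = Fintype.card K by rw [hK]; ring, FiniteField.pow_card]
  have hpow3 : ∀ x : K, (x ^ q) ^ q = x ^ (q ^ 2) := fun x => by rw [← pow_mul, sq]
  have hpow4 : ∀ x : K, (x ^ (q ^ 2)) ^ (q ^ 2) = x ^ q := fun x => by
    conv_lhs => rw [← hpow3 x]
    rw [hpow2]
  simp only [P, lastA, tr, nm, Polynomial.eval_add, Polynomial.eval_neg, Polynomial.eval_monomial,
    mul_pow, hpow, hpow2, hpow3, hpow4]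
  ring

theorem exists_tr_eq (hadd : ∀ x y : K, (x + y) ^ q = x ^ q + y ^ q) {b : K} (hb : b ≠ 0) {w : K}
    (hw : w ^ q = w) : ∃ v : K, tr q (v * b) = w := by
  have hw2 : w ^ (q ^ 2) = w := by rw [sq, pow_mul, hw, hw]
  obtain ⟨t, ht⟩ := exists_lastA_ne hK hq (s := 0) (b := b) (Or.inl hb)
  have ht' : tr q (b * t) ≠ 0 := by
    intro e
    apply ht
    rw [lastA, e]
    simp [tr, zero_pow (show q ≠ 0 by omega), zero_pow (show q ^ 2 ≠ 0 by positivity)]
  set T := tr q (b * t)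
  have hT : T ^ q = T := by
    simp only [T, tr, hadd, ← pow_mul]
    rw [show q ^ 2 * q = Fintype.card K by rw [hK]; ring, FiniteField.pow_card, sq]
    ring
  have hT2 : T ^ (q ^ 2) = T := by rw [sq, pow_mul, hT, hT]
  refine ⟨w / T * t, ?_⟩
  have hc : (w / T) ^ q = w / T := by rw [div_pow, hw, hT]
  have hc2 : (w / T) ^ (q ^ 2) = w / T := by rw [div_pow, hw2, hT2]
  have e : tr q (w / T * t * b) = w / T * T := by
    generalize w / T = c at hc hc2
    simp only [T, tr, mul_pow, hc, hc2]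
    ring
  rw [e, div_mul_cancel₀ _ ht']

theorem card_norm_one : Nat.card {u : Kˣ // u ^ (1 + q + q ^ 2) = 1} = 1 + q + q ^ 2 := by
  show Nat.card ↥((powMonoidHom (1 + q + q ^ 2) : Kˣ →* Kˣ).ker) = _
  rw [IsCyclic.card_powMonoidHom_ker, Nat.card_units, Nat.card_eq_fintype_card, hK]
  refine Nat.gcd_eq_right ⟨q - 1, ?_⟩
  have h1 : 1 ≤ q ^ 3 := Nat.one_le_pow _ _ (by omega)
  zify [h1, show 1 ≤ q by omega]
  ring

theorem exists_nm_eq {w : Kˣ} (hw : w ^ (q - 1) = 1) : ∃ u : Kˣ, u ^ (1 + q + q ^ 2) = w := by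
  have hle : (powMonoidHom (1 + q + q ^ 2) : Kˣ →* Kˣ).range ≤ (powMonoidHom (q - 1) : Kˣ →* Kˣ).ker := by
    rintro _ ⟨u, rfl⟩
    rw [MonoidHom.mem_ker, powMonoidHom_apply, powMonoidHom_apply, ← pow_mul]
    have hc : Nat.card Kˣ = (1 + q + q ^ 2) * (q - 1) := by
      rw [Nat.card_units, Nat.card_eq_fintype_card, hK]
      have h1 : 1 ≤ q ^ 3 := Nat.one_le_pow _ _ (by omega)
      zify [h1, show 1 ≤ q by omega]
      ring
    rw [← hc, pow_card_eq_one']
  have hcard : Nat.card ↥(powMonoidHom (q - 1) : Kˣ →* Kˣ).ker ≤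
      Nat.card ↥(powMonoidHom (1 + q + q ^ 2) : Kˣ →* Kˣ).range := by
    have h := Subgroup.card_eq_card_quotient_mul_card_subgroup (powMonoidHom (1 + q + q ^ 2) : Kˣ →* Kˣ).ker
    rw [Nat.card_congr (QuotientGroup.quotientKerEquivRange _).toEquiv] at h
    have hk : Nat.card ↥(powMonoidHom (1 + q + q ^ 2) : Kˣ →* Kˣ).ker = 1 + q + q ^ 2 :=
      card_norm_one hK hq
    rw [IsCyclic.card_powMonoidHom_ker]
    rw [hk] at h
    have hd : (q - 1) ∣ Nat.card Kˣ := by
      rw [Nat.card_units, Nat.card_eq_fintype_card, hK]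
      simpa using Nat.sub_dvd_pow_sub_pow q 1 3
    rw [Nat.gcd_eq_right hd]
    have h2 : (q - 1) * (1 + q + q ^ 2) = Nat.card Kˣ := by
      rw [Nat.card_units, Nat.card_eq_fintype_card, hK]
      have h1 : 1 ≤ q ^ 3 := Nat.one_le_pow _ _ (by omega)
      zify [h1, show 1 ≤ q by omega]
      ring
    exact (Nat.eq_of_mul_eq_mul_right (by omega) (h2.trans h)).le
  have e := Subgroup.eq_of_le_of_card_ge hle hcard
  have hmem : w ∈ (powMonoidHom (q - 1) : Kˣ →* Kˣ).ker := MonoidHom.mem_ker.2 hw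
  rw [← e] at hmem
  exact hmem

/-- An invariant set of nonzero vectors has at least `(q - 1) * (q ^ 3 + 1)` elements. -/
theorem orbit_bound (P : K → K → K → K → Prop)
    (hA : ∀ t e s b f, P e s b f → ∃ b', P e (s - e * t) b' (lastA q e s b f t) ∧
      (s = 0 → b' = b + e * (t ^ q * t ^ (q ^ 2))))
    (hH : ∀ (u : Kˣ) e s b f, P e s b f →
      P (e / nm q (u : K)) (s * ((u : K) / ((u : K) ^ q * (u : K) ^ (q ^ 2))))
        (b * ((u : K) ^ q * (u : K) ^ (q ^ 2) / (u : K))) (f * nm q (u : K)))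
    (ε₁ ε₂ : K) (hε₁ : ε₁ ≠ 0) (hε₂ : ε₂ ≠ 0)
    (hN : ∀ e s b f, P e s b f → ∃ s' b', P (ε₂ * f) s' b' (ε₁ * e))
    (hfix : ∀ e s b f, P e s b f → e ^ q = e ∧ f ^ q = f)
    {e s b f : K} (hP : P e s b f) (hne : e ≠ 0 ∨ s ≠ 0 ∨ b ≠ 0 ∨ f ≠ 0) :
    ∃ T : Finset (K × K × K × K), (q - 1) * (q ^ 3 + 1) ≤ T.card ∧
      ∀ v ∈ T, P v.1 v.2.1 v.2.2.1 v.2.2.2 := by
  classical
  have hnm : ∀ u : Kˣ, nm q (u : K) = ((u ^ (1 + q + q ^ 2) : Kˣ) : K) := fun u => by
    simp [nm, pow_add]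
  obtain ⟨e₁, b₁, f₁, he₁, h₁⟩ : ∃ e₁ b₁ f₁, e₁ ≠ 0 ∧ P e₁ 0 b₁ f₁ := by
    suffices hh : ∃ e₁ s₁ b₁ f₁, e₁ ≠ 0 ∧ P e₁ s₁ b₁ f₁ by
      obtain ⟨e₁, s₁, b₁, f₁, he, h⟩ := hh
      obtain ⟨b', h', -⟩ := hA (s₁ / e₁) _ _ _ _ h
      rw [mul_div_cancel₀ _ he, sub_self] at h'
      exact ⟨e₁, b', _, he, h'⟩
    by_cases he : e = 0
    · subst he
      suffices hh : ∃ e₁ s₁ b₁ f₁, f₁ ≠ 0 ∧ P e₁ s₁ b₁ f₁ by
        obtain ⟨e₁, s₁, b₁, f₁, hf, h⟩ := hh
        obtain ⟨s', b', h'⟩ := hN _ _ _ _ h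
        exact ⟨_, s', b', _, mul_ne_zero hε₂ hf, h'⟩
      by_cases hf : f = 0
      · subst hf
        have hsb : b ≠ 0 ∨ s ≠ 0 := by
          rcases hne with h | h | h | h
          · exact absurd rfl h
          · exact Or.inr h
          · exact Or.inl h
          · exact absurd rfl h
        obtain ⟨t, ht⟩ := exists_lastA_ne hK hq hsb
        obtain ⟨b', h', -⟩ := hA t _ _ _ _ hP
        exact ⟨_, _, b', _, ht, h'⟩
      · exact ⟨_, _, _, _, hf, hP⟩
    · exact ⟨_, _, _, _, he, hP⟩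
  have hAH : ∀ (u : Kˣ) (t : K), P (e₁ / nm q (u : K)) (-(e₁ / nm q (u : K) * t))
      (b₁ * ((u : K) ^ q * (u : K) ^ (q ^ 2) / (u : K)) + e₁ / nm q (u : K) * (t ^ q * t ^ (q ^ 2)))
      (lastA q (e₁ / nm q (u : K)) 0 (b₁ * ((u : K) ^ q * (u : K) ^ (q ^ 2) / (u : K)))
        (f₁ * nm q (u : K)) t) := by
    intro u t
    have h := hH u _ _ _ _ h₁
    rw [zero_mul] at h
    obtain ⟨b', h', hb'⟩ := hA t _ _ _ _ h
    rw [hb' rfl, zero_sub] at h'
    exact h'
  by_cases hb₁ : b₁ = 0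
  · subst hb₁
    let W := {w : Kˣ // w ^ (q - 1) = 1}
    have hWcard : Nat.card W = q - 1 := by
      show Nat.card ↥((powMonoidHom (q - 1) : Kˣ →* Kˣ).ker) = _
      rw [IsCyclic.card_powMonoidHom_ker, Nat.card_units, Nat.card_eq_fintype_card, hK]
      exact Nat.gcd_eq_right (by simpa using Nat.sub_dvd_pow_sub_pow q 1 3)
    choose u hu using fun w : W => exists_nm_eq hK hq w.2
    have hu' : ∀ w : W, nm q (u w : K) = (w.1 : K) := fun w => by rw [hnm, hu]
    obtain ⟨t₀, ht₀⟩ : ∃ t₀ : K, e₁ * nm q t₀ = f₁ := by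
      by_cases hf : f₁ = 0
      · exact ⟨0, by simp [hf, nm]⟩
      · obtain ⟨h1, h2⟩ := hfix _ _ _ _ h₁
        have hd : (f₁ / e₁) ^ (q - 1) = 1 := by
          refine mul_right_cancel₀ (div_ne_zero hf he₁) ?_
          rw [← pow_succ, show q - 1 + 1 = q by omega, div_pow, h1, h2, one_mul]
        obtain ⟨v, hv⟩ := exists_nm_eq hK hq (w := Units.mk0 _ (div_ne_zero hf he₁))
          (Units.ext (by simpa using hd))
        exact ⟨(v : K), by rw [hnm, hv, Units.val_mk0, mul_div_cancel₀ _ he₁]⟩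
    obtain ⟨b₂, hflat, -⟩ := hA t₀ _ _ _ _ h₁
    rw [show lastA q e₁ 0 0 f₁ t₀ = 0 by
      simp [lastA, tr, zero_pow (show q ≠ 0 by omega), ← ht₀]] at hflat
    have hz : ∀ w : W, ∃ s' b', P 0 s' b' (ε₁ * (e₁ / (w.1 : K))) := by
      intro w
      obtain ⟨s', b', h⟩ := hN _ _ _ _ (hH (u w) _ _ _ _ hflat)
      rw [zero_mul, mul_zero, hu'] at h
      exact ⟨s', b', h⟩
    choose s₃ b₃ h₃ using hz
    let F : W × K ⊕ W → K × K × K × K := fun x =>
      x.elim (fun wt => (e₁ / (wt.1.1 : K), -(e₁ / (wt.1.1 : K) * wt.2),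
          0 * ((u wt.1 : K) ^ q * (u wt.1 : K) ^ (q ^ 2) / (u wt.1 : K)) +
            e₁ / (wt.1.1 : K) * (wt.2 ^ q * wt.2 ^ (q ^ 2)),
          lastA q (e₁ / (wt.1.1 : K)) 0 (0 * ((u wt.1 : K) ^ q * (u wt.1 : K) ^ (q ^ 2) / (u wt.1 : K)))
            (f₁ * (wt.1.1 : K)) wt.2))
        fun w => (0, s₃ w, b₃ w, ε₁ * (e₁ / (w.1 : K)))
    have hne' : ∀ w : W, e₁ / (w.1 : K) ≠ 0 := fun w => div_ne_zero he₁ w.1.ne_zero
    have hcan : ∀ w w' : W, e₁ / (w.1 : K) = e₁ / (w'.1 : K) → w = w' := fun w w' e =>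
      Subtype.ext (Units.ext (by
        rw [div_eq_div_iff w.1.ne_zero w'.1.ne_zero] at e
        exact (mul_left_cancel₀ he₁ e).symm))
    have hF : Function.Injective F := by
      rintro (⟨w, t⟩ | w) (⟨w', t'⟩ | w') e
      · simp only [F, Sum.elim_inl, Prod.mk.injEq] at e
        obtain rfl := hcan w w' e.1
        rw [mul_left_cancel₀ (hne' w) (neg_injective e.2.1)]
      · exact absurd (congrArg Prod.fst e) (hne' w)
      · exact absurd (congrArg Prod.fst e).symm (hne' w')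
      · simp only [F, Sum.elim_inr, Prod.mk.injEq] at e
        rw [hcan w w' (mul_left_cancel₀ hε₁ e.2.2.2)]
    refine ⟨Finset.univ.image F, ?_, fun v hv => ?_⟩
    · rw [Finset.card_image_of_injective _ hF, Finset.card_univ, ← Nat.card_eq_fintype_card,
        Nat.card_sum, Nat.card_prod, hWcard, Nat.card_eq_fintype_card (α := K), hK]
      exact (mul_add_one _ _).le
    · obtain ⟨x, -, rfl⟩ := Finset.mem_image.1 hv
      rcases x with ⟨w, t⟩ | w
      · have h := hAH (u w) t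
        rw [hu'] at h
        exact h
      · exact h₃ w
  · let W := {u : Kˣ // u ^ (1 + q + q ^ 2) = 1}
    have hu' : ∀ u : W, nm q (u.1 : K) = 1 := fun u => by rw [hnm, u.2, Units.val_one]
    let F : W × K → K × K × K × K := fun x =>
      (e₁, -(e₁ * x.2), b₁ * ((x.1.1 : K) ^ q * (x.1.1 : K) ^ (q ^ 2) / (x.1.1 : K)) +
        e₁ * (x.2 ^ q * x.2 ^ (q ^ 2)),
        lastA q e₁ 0 (b₁ * ((x.1.1 : K) ^ q * (x.1.1 : K) ^ (q ^ 2) / (x.1.1 : K))) f₁ x.2)
    have hF : Function.Injective F := by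
      rintro ⟨u, t⟩ ⟨u', t'⟩ e
      simp only [F, Prod.mk.injEq] at e
      obtain rfl := mul_left_cancel₀ he₁ (neg_injective e.2.1)
      have e2 := mul_left_cancel₀ hb₁ (add_right_cancel e.2.2.1)
      have e3 : ∀ u : W, (u.1 : K) ^ q * (u.1 : K) ^ (q ^ 2) / (u.1 : K) = ((u.1⁻¹) ^ 2 : Kˣ) := by
        intro u
        rw [Units.val_pow_eq_pow_val, Units.val_inv_eq_inv_val, inv_pow, ← mul_eq_one_iff_eq_inv₀]
        · have h := hu' u
          rw [nm] at h
          rw [div_mul_eq_mul_div, div_eq_one_iff_eq u.1.ne_zero]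
          linear_combination (u.1 : K) * h
        · exact pow_ne_zero _ u.1.ne_zero
      rw [e3, e3, Units.val_inj, inv_pow, inv_pow, inv_inj] at e2
      have hodd : Odd (1 + q + q ^ 2) := by
        have : Even (q + q ^ 2) := by
          rw [show q + q ^ 2 = q * (q + 1) by ring]; exact Nat.even_mul_succ_self q
        rw [add_assoc, add_comm 1]
        exact this.add_one
      obtain ⟨j, hj⟩ := hodd
      have hsq : ∀ u : W, u.1 = (u.1 ^ 2) ^ (j + 1) := fun u => by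
        rw [← pow_mul, show 2 * (j + 1) = (1 + q + q ^ 2) + 1 by omega, pow_succ (u.1 : Kˣ), u.2, one_mul]
      rw [Subtype.ext ((hsq u).trans (e2 ▸ (hsq u').symm) : u.1 = u'.1)]
    refine ⟨Finset.univ.image F, ?_, fun v hv => ?_⟩
    · rw [Finset.card_image_of_injective _ hF, Finset.card_univ, ← Nat.card_eq_fintype_card,
        Nat.card_prod, card_norm_one hK hq, Nat.card_eq_fintype_card, hK]
      have h1 : q ^ 3 + 1 ≤ 2 * q ^ 3 := by
        have := Nat.one_le_pow 3 q (by omega); omega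
      calc (q - 1) * (q ^ 3 + 1) ≤ q * (2 * q ^ 3) := Nat.mul_le_mul (by omega) h1
        _ = (2 * q) * q ^ 3 := by ring
        _ ≤ _ := Nat.mul_le_mul_right _ (by nlinarith)
    · obtain ⟨⟨u, t⟩, -, rfl⟩ := Finset.mem_image.1 hv
      have h := hAH u.1 t
      rw [hu', div_one, mul_one] at h
      exact h

end CfsgLib.TrialityDeg
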