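import Cfsg.Agent.Lib.TrialityDeg.RadicalD4
import Cfsg.Agent.Lib.TrialityDeg.Orbit

/-!
The radical of ³D₄ at the long root node: its elements, its order and the elements normalising it.
-/

set_option autoImplicit false
set_option linter.unusedSectionVars false

namespace CfsgLib.TrialityDeg

open Cfsg.Lie CfsgLib.ChevStr CfsgLib.Twisted
open scoped MatrixGroups commutatorElement

/-- The product of the three representatives of orthogonal roots. -/
theorem nTriple_mem {D : ChevalleyDatum} {F : Type*} [Field F] (C : ChevCore D F)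
    {G1 : Subgroup (GL D.Idx F)} {a b c : ℕ} (hab : CommPair D a b) (hac : CommPair D a c)
    (hbc : CommPair D b c) (h1 : C.xGL a 1 * (C.xGL b 1 * C.xGL c 1) ∈ G1)
    (h2 : C.xGL (D.neg a) (-1) * (C.xGL (D.neg b) (-1) * C.xGL (D.neg c) (-1)) ∈ G1) :
    C.nGL a 1 * (C.nGL b 1 * C.nGL c 1) ∈ G1 := by
  have k1 := hab.commute C
  have k2 := hac.commute C
  have k3 := hbc.commute C
  rw [nGL_prod, nGL_prod, nGL_prod, inv_one,
    ← sandwich_mul (k3 _ (by simp) _ (by simp) _ _) (k3 _ (by simp) _ (by simp) _ _)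
      (k3 _ (by simp) _ (by simp) _ _),
    ← sandwich_mul ((k1 _ (by simp) _ (by simp) _ _).mul_left (k2 _ (by simp) _ (by simp) _ _))
      ((k1 _ (by simp) _ (by simp) _ _).mul_left (k2 _ (by simp) _ (by simp) _ _))
      ((k1 _ (by simp) _ (by simp) _ _).mul_left (k2 _ (by simp) _ (by simp) _ _))]
  exact mul_mem h1 (mul_mem h2 h1)

variable (K : Type*) [Field K] [Fintype K] (p n : ℕ) [ExpChar K p]

/-- The radical of the twisted group. -/
noncomputable def radGrp : Subgroup (GL chevD4.Idx K) := (frobD4 K p n).fixU SQ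

/-- The centre of the radical of the twisted group. -/
noncomputable def zenGrp : Subgroup (GL chevD4.Idx K) := (frobD4 K p n).fixU SZ

theorem rad_stable : (frobD4 K p n).Stable SQ := fun r hr => (rad_root r hr).1

theorem rad_cycles : ([(14, 14, 1), (19, 16, -1), (16, 15, 1), (15, 19, -1), (17, 20, -1), (20, 21, 1),
    (21, 17, -1), (22, 22, 1)] : List (ℕ × ℕ × ℤ)).all (fun x =>
      decide (x.1 < chevD4.nroots) && d4aSym.root x.1 == x.2.1 && d4aSym.sign x.1 == x.2.2 &&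
        radQ.contains x.1 && radQ.contains x.2.1) = true := by decide +kernel

variable {K p n} (hn : Fintype.card K = (p ^ n) * (p ^ n) * (p ^ n))

include hn in
theorem frob_cube (t : K) : ((t ^ p ^ n) ^ p ^ n) ^ p ^ n = t := by
  rw [← pow_mul, ← pow_mul, show p ^ n * (p ^ n * p ^ n) = Fintype.card K by rw [hn, mul_assoc],
    FiniteField.pow_card]

theorem frob_add (x y : K) : (x + y) ^ p ^ n = x ^ p ^ n + y ^ p ^ n := by
  have h := map_add (iterateFrobenius K p n) x y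
  simpa [iterateFrobenius_def] using h

theorem frob_neg (x : K) : (-x) ^ p ^ n = -(x ^ p ^ n) := by
  rw [neg_pow, neg_one_pow_expChar (F := K) p n, neg_one_mul]

theorem frob_sq (x : K) : x ^ ((p ^ n) ^ 2) = (x ^ p ^ n) ^ p ^ n := by rw [← pow_mul x, sq]

theorem act_root {r k : ℕ} {σ : ℤ} (hr : r < chevD4.nroots) (hk : d4aSym.root r = k)
    (hs : d4aSym.sign r = σ) (t : K) :
    (frobD4 K p n).act ((coreD4 K).xGL r t) = (coreD4 K).xGL k ((σ : K) * t ^ p ^ n) := by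
  rw [(frobD4 K p n).act_word (root := d4aSym.root) (fun _ => rfl) hr, hk]
  show (coreD4 K).xGL k ((d4aSym.sign r : K) * t ^ p ^ n) = _
  rw [hs]

theorem cr_act {r k : ℕ} {σ : ℤ} (hr : r < chevD4.nroots) (hk : d4aSym.root r = k)
    (hs : d4aSym.sign r = σ) (hrq : r ∈ radQ) (hkq : k ∈ radQ) {g : GL chevD4.Idx K}
    (hg : g ∈ radGrp K p n) : cr K k g = (σ : K) * cr K r g ^ p ^ n := by
  obtain ⟨hg1, hg2⟩ := Subgroup.mem_inf.1 hg
  have h := (frobD4 K p n).coord_act (radLevel K) (rad_stable K p n) ⟨r, hr⟩ (radQ_spec r hrq).1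
    (radQ_spec r hrq).2 (show d4aSym.root r ∉ SZ by rw [hk]; exact (radQ_spec k hkq).2) hg1
  rw [((frobD4 K p n).mem_fixedSub.1 hg2).2] at h
  have h' : cr K (d4aSym.root r) g = (d4aSym.sign r : K) * cr K r g ^ p ^ n := h
  rwa [hk, hs] at h'

/-- The coordinates of a fixed element are determined by four of them. -/
theorem cr_rel {g : GL chevD4.Idx K} (hg : g ∈ radGrp K p n) :
    cr K 16 g = -(cr K 19 g ^ p ^ n) ∧ cr K 15 g = -((cr K 19 g ^ p ^ n) ^ p ^ n) ∧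
    cr K 20 g = -(cr K 17 g ^ p ^ n) ∧ cr K 21 g = -((cr K 17 g ^ p ^ n) ^ p ^ n) ∧
    cr K 14 g ^ p ^ n = cr K 14 g ∧ cr K 22 g ^ p ^ n = cr K 22 g := by
  have T := rad_cycles
  simp only [List.all_cons, List.all_nil, Bool.and_eq_true, decide_eq_true_eq, beq_iff_eq,
    List.contains_iff_mem] at T
  obtain ⟨a, b, c, -, d, e, -, f, -⟩ := T
  have A := cr_act a.1.1.1.1 a.1.1.1.2 a.1.1.2 a.1.2 a.2 hg
  have B := cr_act b.1.1.1.1 b.1.1.1.2 b.1.1.2 b.1.2 b.2 hg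
  have C := cr_act c.1.1.1.1 c.1.1.1.2 c.1.1.2 c.1.2 c.2 hg
  have D := cr_act d.1.1.1.1 d.1.1.1.2 d.1.1.2 d.1.2 d.2 hg
  have E := cr_act e.1.1.1.1 e.1.1.1.2 e.1.1.2 e.1.2 e.2 hg
  have F := cr_act f.1.1.1.1 f.1.1.1.2 f.1.1.2 f.1.2 f.2 hg
  simp only [Int.cast_neg, Int.cast_one, neg_one_mul, one_mul] at A B C D E F
  refine ⟨B, ?_, D, ?_, A.symm, F.symm⟩
  · rw [C, B, frob_neg]
  · rw [E, D, frob_neg]

theorem zen_le_rad : zenGrp K p n ≤ radGrp K p n :=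
  inf_le_inf_right _ ((coreD4 K).Ucl_mono (radLevel K).sub)

/-- An element of the radical with vanishing coordinates is central. -/
theorem mem_zen {g : GL chevD4.Idx K} (hg : g ∈ radGrp K p n) (h14 : cr K 14 g = 0)
    (h19 : cr K 19 g = 0) (h17 : cr K 17 g = 0) (h22 : cr K 22 g = 0) : g ∈ zenGrp K p n := by
  obtain ⟨r16, r15, r20, r21, -, -⟩ := cr_rel hg
  have hp : p ^ n ≠ 0 := (pow_pos (expChar_pos K p) n).ne'
  rw [h19, zero_pow hp, neg_zero] at r16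
  rw [h19, zero_pow hp, zero_pow hp, neg_zero] at r15
  rw [h17, zero_pow hp, neg_zero] at r20
  rw [h17, zero_pow hp, zero_pow hp, neg_zero] at r21
  refine ⟨(coreD4 K).mem_Ucl_of_coord (radLevel K) (Subgroup.mem_inf.1 hg).1 fun r hr hr' => ?_,
    (Subgroup.mem_inf.1 hg).2⟩
  show cr K r g = 0
  have h := radQ_of hr hr'
  simp only [radQ, List.mem_cons, List.not_mem_nil, or_false] at h
  rcases h with rfl | rfl | rfl | rfl | rfl | rfl | rfl | rfl <;> assumption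

theorem zen_coords {g : GL chevD4.Idx K} (hg : g ∈ zenGrp K p n) {r : ℕ} (hr : r ∈ radQ) :
    cr K r g = 0 := by
  refine (coreD4 K).coord_of_mem (radLevel K) (radQ_spec r hr).1 (radQ_spec r hr).2 ?_
  refine (coreD4 K).Ucl_mono (T := SQ \ {r})
    (fun k hk => ⟨(radLevel K).sub hk, fun e => (radQ_spec r hr).2 ?_⟩)
    (Subgroup.mem_inf.1 hg).1
  rw [Set.mem_singleton_iff] at e
  exact e ▸ hk

theorem fixed23 : ∀ h : 23 < chevD4.nroots, chevD4.IsPosRoot 23 ∧ rhoD4 ⟨23, h⟩ = ⟨23, h⟩ ∧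
    d4aSym.sign 23 = 1 := by decide +kernel

theorem fixedRoot23 : Gens.FixedRoot (frobD4 K p n) (p ^ n) ⟨23, by decide⟩ :=
  fixedRootD4 K (by decide) (fixed23 (by decide)).1 (fixed23 (by decide)).2.1 (fixed23 (by decide)).2.2

/-- The elements of the centre. -/
theorem mem_zen_iff {g : GL chevD4.Idx K} :
    g ∈ zenGrp K p n ↔ ∃ w : K, w ^ p ^ n = w ∧ g = (coreD4 K).xGL 23 w := by
  refine ⟨fun hg => ?_, ?_⟩
  · have hcl : (coreD4 K).R.IsClosed (listSet [((⟨23, by decide⟩ : Fin chevD4.nroots) : ℕ)]) :=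
      ⟨fun r hr => (radLevel K).pos r ((radLevel K).sub hr),
        fun r hr s hs k hk => (radLevel K).combo r ((radLevel K).sub hr) s ((radLevel K).sub hs) k hk⟩
    exact Gens.fixU_single fixedRoot23 hcl hg
  · rintro ⟨w, hw, rfl⟩
    refine ⟨(coreD4 K).xGL_mem_Ucl (by simp [listSet]) w, (coreD4 K).xGL_mem_group _ _, ?_⟩
    obtain ⟨-, h23, hs23⟩ := fixed23 (by decide)
    rw [act_root (σ := 1) (k := 23) (by decide) (show d4aSym.root 23 = 23 from congrArg Fin.val h23)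
      hs23, Int.cast_one, one_mul, hw]

theorem x_mem_rad {r : ℕ} (hr : r < chevD4.nroots) (hk : d4aSym.root r = r) (hs : d4aSym.sign r = 1)
    (hrq : r ∈ radL) {t : K} (ht : t ^ p ^ n = t) : (coreD4 K).xGL r t ∈ radGrp K p n := by
  refine ⟨(coreD4 K).xGL_mem_Ucl hrq t, (coreD4 K).xGL_mem_group _ _, ?_⟩
  rw [act_root hr hk hs, Int.cast_one, one_mul, ht]

include hn in
/-- A cycle of three commuting roots gives an element of the radical. -/
theorem triple_mem_rad {r₁ r₂ r₃ : ℕ} {σ₁ σ₂ σ₃ : ℤ}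
    (h1 : r₁ < chevD4.nroots ∧ r₁ ∈ radL ∧ d4aSym.root r₁ = r₂ ∧ d4aSym.sign r₁ = σ₁)
    (h2 : r₂ < chevD4.nroots ∧ r₂ ∈ radL ∧ d4aSym.root r₂ = r₃ ∧ d4aSym.sign r₂ = σ₂)
    (h3 : r₃ < chevD4.nroots ∧ r₃ ∈ radL ∧ d4aSym.root r₃ = r₁ ∧ d4aSym.sign r₃ = σ₃)
    (hσ : σ₁ * σ₂ * σ₃ = 1) (hc12 : r₂ ≠ r₁ ∧ r₂ ≠ chevD4.neg r₁ ∧ chevD4.commTerms r₁ r₂ = [])
    (hc13 : r₃ ≠ r₁ ∧ r₃ ≠ chevD4.neg r₁ ∧ chevD4.commTerms r₁ r₃ = []) (t : K) :
    (coreD4 K).wordGL [(r₁, t), (r₂, (σ₁ : K) * t ^ p ^ n),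
      (r₃, (σ₁ : K) * (σ₂ : K) * (t ^ p ^ n) ^ p ^ n)] ∈ radGrp K p n := by
  refine ⟨(coreD4 K).wordGL_mem_Ucl (by simp [listSet, h1.2.1, h2.2.1, h3.2.1]),
    (coreD4 K).wordGL_mem_group _, ?_⟩
  simp only [ChevCore.wordGL_cons, ChevCore.wordGL_nil, mul_one]
  rw [(frobD4 K p n).act_mul ((coreD4 K).xGL_mem_group _ _)
      (mul_mem ((coreD4 K).xGL_mem_group _ _) ((coreD4 K).xGL_mem_group _ _)),
    (frobD4 K p n).act_mul ((coreD4 K).xGL_mem_group _ _) ((coreD4 K).xGL_mem_group _ _),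
    act_root h1.1 h1.2.2.1 h1.2.2.2, act_root h2.1 h2.2.2.1 h2.2.2.2, act_root h3.1 h3.2.2.1 h3.2.2.2]
  have hi : ∀ σ : ℤ, (σ : K) ^ p ^ n = σ := fun σ => map_intCast (iterateFrobenius K p n) σ
  have hσ' : (σ₁ : K) * σ₂ * σ₃ = 1 := by exact_mod_cast congrArg (Int.cast (R := K)) hσ
  rw [show (σ₂ : K) * ((σ₁ : K) * t ^ p ^ n) ^ p ^ n = (σ₁ : K) * σ₂ * (t ^ p ^ n) ^ p ^ n by
      rw [mul_pow, hi]; ring,
    show (σ₃ : K) * ((σ₁ : K) * σ₂ * (t ^ p ^ n) ^ p ^ n) ^ p ^ n = t by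
      rw [mul_pow, mul_pow, hi, hi, frob_cube hn, ← mul_assoc, mul_comm (σ₃ : K), hσ', one_mul]]
  rw [(coreD4 K).xGL_commute h1.1 h3.1 hc13.1 hc13.2.1 (fun c hc => by simp [hc13.2.2] at hc),
    ← mul_assoc,
    (coreD4 K).xGL_commute h1.1 h2.1 hc12.1 hc12.2.1 (fun c hc => by simp [hc12.2.2] at hc),
    mul_assoc]

theorem triple_facts :
    ((19 < chevD4.nroots ∧ 19 ∈ radL ∧ d4aSym.root 19 = 16 ∧ d4aSym.sign 19 = -1) ∧
     (16 < chevD4.nroots ∧ 16 ∈ radL ∧ d4aSym.root 16 = 15 ∧ d4aSym.sign 16 = 1) ∧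
     (15 < chevD4.nroots ∧ 15 ∈ radL ∧ d4aSym.root 15 = 19 ∧ d4aSym.sign 15 = -1) ∧
     (16 ≠ chevD4.neg 19 ∧ chevD4.commTerms 19 16 = []) ∧
     (15 ≠ chevD4.neg 19 ∧ chevD4.commTerms 19 15 = [])) ∧
    ((17 < chevD4.nroots ∧ 17 ∈ radL ∧ d4aSym.root 17 = 20 ∧ d4aSym.sign 17 = -1) ∧
     (20 < chevD4.nroots ∧ 20 ∈ radL ∧ d4aSym.root 20 = 21 ∧ d4aSym.sign 20 = 1) ∧
     (21 < chevD4.nroots ∧ 21 ∈ radL ∧ d4aSym.root 21 = 17 ∧ d4aSym.sign 21 = -1) ∧
     (20 ≠ chevD4.neg 17 ∧ chevD4.commTerms 17 20 = []) ∧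
     (21 ≠ chevD4.neg 17 ∧ chevD4.commTerms 17 21 = [])) ∧
    (14 < chevD4.nroots ∧ d4aSym.root 14 = 14 ∧ d4aSym.sign 14 = 1) ∧
    (22 < chevD4.nroots ∧ d4aSym.root 22 = 22 ∧ d4aSym.sign 22 = 1) := by decide +kernel

/-- The element at the first triple. -/
noncomputable def sEl (s : K) : GL chevD4.Idx K :=
  (coreD4 K).wordGL [(19, s), (16, -(s ^ p ^ n)), (15, -((s ^ p ^ n) ^ p ^ n))]

/-- The element at the second triple. -/
noncomputable def bEl (b : K) : GL chevD4.Idx K :=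
  (coreD4 K).wordGL [(17, b), (20, -(b ^ p ^ n)), (21, -((b ^ p ^ n) ^ p ^ n))]

include hn in
theorem sEl_mem (s : K) : sEl (p := p) (n := n) s ∈ radGrp K p n := by
  obtain ⟨a, b, c, ⟨d1, d2⟩, e1, e2⟩ := triple_facts.1
  have h := triple_mem_rad hn a b c (by norm_num) ⟨by decide, d1, d2⟩ ⟨by decide, e1, e2⟩ s
  simpa [sEl] using h

include hn in
theorem bEl_mem (s : K) : bEl (p := p) (n := n) s ∈ radGrp K p n := by
  obtain ⟨a, b, c, ⟨d1, d2⟩, e1, e2⟩ := triple_facts.2.1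
  have h := triple_mem_rad hn a b c (by norm_num) ⟨by decide, d1, d2⟩ ⟨by decide, e1, e2⟩ s
  simpa [bEl] using h

/-- The element with given coordinates. -/
noncomputable def vEl (e s b f : K) : GL chevD4.Idx K :=
  (coreD4 K).xGL 14 e * sEl (p := p) (n := n) s * bEl (p := p) (n := n) b * (coreD4 K).xGL 22 f

include hn in
theorem vEl_mem {e s b f : K} (he : e ^ p ^ n = e) (hf : f ^ p ^ n = f) :
    vEl (p := p) (n := n) e s b f ∈ radGrp K p n := by
  obtain ⟨⟨a1, a2, a3⟩, b1, b2, b3⟩ := triple_facts.2.2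
  exact mul_mem (mul_mem (mul_mem (x_mem_rad a1 a2 a3 (by simp [radL]) he) (sEl_mem hn s)) (bEl_mem hn b))
    (x_mem_rad b1 b2 b3 (by simp [radL]) hf)

theorem vEl_coords (e s b f : K) :
    cr K 14 (vEl (p := p) (n := n) e s b f) = e ∧ cr K 19 (vEl (p := p) (n := n) e s b f) = s ∧
    cr K 17 (vEl (p := p) (n := n) e s b f) = b ∧ cr K 22 (vEl (p := p) (n := n) e s b f) = f := by
  have h1 := (coreD4 K).xGL_mem_Ucl (S := SQ) (r := 14) (by simp [listSet, radL]) e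
  have h2 : sEl (p := p) (n := n) s ∈ (coreD4 K).Ucl SQ :=
    (coreD4 K).wordGL_mem_Ucl (by simp [listSet, radL])
  have h3 : bEl (p := p) (n := n) b ∈ (coreD4 K).Ucl SQ :=
    (coreD4 K).wordGL_mem_Ucl (by simp [listSet, radL])
  have h4 := (coreD4 K).xGL_mem_Ucl (S := SQ) (r := 22) (by simp [listSet, radL]) f
  have key : ∀ r ∈ radQ, cr K r (vEl (p := p) (n := n) e s b f) =
      cr K r ((coreD4 K).xGL 14 e) + cr K r (sEl (p := p) (n := n) s) +
        cr K r (bEl (p := p) (n := n) b) + cr K r ((coreD4 K).xGL 22 f) := fun r hr => by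
    rw [vEl, cr_mul hr (mul_mem (mul_mem h1 h2) h3) h4, cr_mul hr (mul_mem h1 h2) h3, cr_mul hr h1 h2]
  have hw : ∀ r ∈ radQ, ∀ w : List (ℕ × K), (∀ x ∈ w, x.1 ∈ SQ) → cr K r ((coreD4 K).wordGL w) =
      ((w.filter fun x => decide (x.1 = r)).map Prod.snd).sum := fun r hr w hw =>
    (coreD4 K).coord_wordGL (radLevel K) (radQ_spec r hr).1 (radQ_spec r hr).2 w hw
  refine ⟨?_, ?_, ?_, ?_⟩ <;>
  · rw [key _ (by decide), cr_x (by decide) (by simp [radL]), cr_x (by decide) (by simp [radL]),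
      sEl, bEl, hw _ (by decide) _ (by simp [listSet, radL]), hw _ (by decide) _ (by simp [listSet, radL])]
    simp

include hn

theorem card_zen (hq : 2 ≤ p ^ n) : Nat.card ↥(zenGrp K p n) = p ^ n := by
  refine Eq.trans (Nat.card_congr (Equiv.ofBijective
    (fun w : {t : K // t ^ p ^ n = t} => (⟨(coreD4 K).xGL 23 w.1, mem_zen_iff.2 ⟨w.1, w.2, rfl⟩⟩ : zenGrp K p n))
    ⟨fun a b e => Subtype.ext ((coreD4 K).xGL_injective (by decide) (congrArg Subtype.val e)), fun g => ?_⟩).symm) ?_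
  · obtain ⟨w, hw, e⟩ := mem_zen_iff.1 g.2
    exact ⟨⟨w, hw⟩, Subtype.ext e.symm⟩
  · refine card_pow_eq_self hq ?_
    rw [hn, show p ^ n * p ^ n * p ^ n = (p ^ n) ^ 3 by ring]
    simpa using Nat.sub_dvd_pow_sub_pow (p ^ n) 1 3

theorem card_rad (hq : 2 ≤ p ^ n) : Nat.card ↥(radGrp K p n) = (p ^ n) ^ 9 := by
  let V := {t : K // t ^ p ^ n = t} × K × K × {t : K // t ^ p ^ n = t}
  let F : V × ↥(zenGrp K p n) → ↥(radGrp K p n) := fun x =>
    ⟨vEl (p := p) (n := n) x.1.1.1 x.1.2.1 x.1.2.2.1 x.1.2.2.2.1 * x.2,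
      mul_mem (vEl_mem hn x.1.1.2 x.1.2.2.2.2) (zen_le_rad x.2.2)⟩
  have hcr : ∀ x : V × ↥(zenGrp K p n), ∀ r ∈ radQ, cr K r (F x : GL chevD4.Idx K) =
      cr K r (vEl (p := p) (n := n) x.1.1.1 x.1.2.1 x.1.2.2.1 x.1.2.2.2.1) := fun x r hr => by
    rw [cr_mul hr (Subgroup.mem_inf.1 (vEl_mem hn x.1.1.2 x.1.2.2.2.2)).1
      (Subgroup.mem_inf.1 (zen_le_rad x.2.2)).1, zen_coords x.2.2 hr, add_zero]
  have hF : Function.Bijective F := by
    refine ⟨fun x y e => ?_, fun g => ?_⟩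
    · have e' : (F x : GL chevD4.Idx K) = F y := congrArg Subtype.val e
      obtain ⟨a1, a2, a3, a4⟩ := vEl_coords (p := p) (n := n) x.1.1.1 x.1.2.1 x.1.2.2.1 x.1.2.2.2.1
      obtain ⟨b1, b2, b3, b4⟩ := vEl_coords (p := p) (n := n) y.1.1.1 y.1.2.1 y.1.2.2.1 y.1.2.2.2.1
      have c : ∀ r ∈ radQ, _ := fun r hr =>
        (hcr x r hr).symm.trans ((congrArg (cr K r) e').trans (hcr y r hr))
      have hv : x.1 = y.1 := by
        refine Prod.ext (Subtype.ext ?_) (Prod.ext ?_ (Prod.ext ?_ (Subtype.ext ?_)))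
        · rw [← a1, ← b1]; exact c 14 (by decide)
        · rw [← a2, ← b2]; exact c 19 (by decide)
        · rw [← a3, ← b3]; exact c 17 (by decide)
        · rw [← a4, ← b4]; exact c 22 (by decide)
      refine Prod.ext hv (Subtype.ext ?_)
      simp only [F, hv] at e'
      exact mul_left_cancel e'
    · obtain ⟨-, -, -, -, h14, h22⟩ := cr_rel g.2
      have hv := vEl_mem (p := p) (n := n) (s := cr K 19 (g : GL chevD4.Idx K))
        (b := cr K 17 (g : GL chevD4.Idx K)) hn h14 h22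
      obtain ⟨a1, a2, a3, a4⟩ := vEl_coords (p := p) (n := n) (cr K 14 (g : GL chevD4.Idx K))
        (cr K 19 (g : GL chevD4.Idx K)) (cr K 17 (g : GL chevD4.Idx K)) (cr K 22 (g : GL chevD4.Idx K))
      set v := vEl (p := p) (n := n) (cr K 14 (g : GL chevD4.Idx K))
        (cr K 19 (g : GL chevD4.Idx K)) (cr K 17 (g : GL chevD4.Idx K)) (cr K 22 (g : GL chevD4.Idx K))
      have hz : ∀ r ∈ radQ, cr K r (v⁻¹ * (g : GL chevD4.Idx K)) =
          - cr K r v + cr K r (g : GL chevD4.Idx K) := fun r hr => by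
        rw [cr_mul hr (inv_mem (Subgroup.mem_inf.1 hv).1) (Subgroup.mem_inf.1 g.2).1,
          cr_inv hr (Subgroup.mem_inf.1 hv).1]
      have hzm : v⁻¹ * (g : GL chevD4.Idx K) ∈ zenGrp K p n :=
        mem_zen (mul_mem (inv_mem hv) g.2) (by rw [hz 14 (by decide), a1, neg_add_cancel])
          (by rw [hz 19 (by decide), a2, neg_add_cancel]) (by rw [hz 17 (by decide), a3, neg_add_cancel])
          (by rw [hz 22 (by decide), a4, neg_add_cancel])
      exact ⟨((⟨_, h14⟩, _, _, ⟨_, h22⟩), ⟨_, hzm⟩), Subtype.ext (mul_inv_cancel_left v _)⟩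
  have hfix : Nat.card {t : K // t ^ p ^ n = t} = p ^ n := by
    refine card_pow_eq_self hq ?_
    rw [hn, show p ^ n * p ^ n * p ^ n = (p ^ n) ^ 3 by ring]
    simpa using Nat.sub_dvd_pow_sub_pow (p ^ n) 1 3
  rw [← Nat.card_congr (Equiv.ofBijective F hF)]
  simp only [V, Nat.card_prod, hfix, card_zen hn hq, Nat.card_eq_fintype_card (α := K), hn]
  ring

theorem rad_le_twisted (hq : 2 ≤ p ^ n) : radGrp K p n ≤ twistedD4 K (p ^ n) :=
  (inf_le_inf_right _ ((coreD4 K).Ucl_mono fun r hr => (rad_pos r hr).2)).trans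
    (gensD4 K hn hq).fixU_pos.1

theorem leaf_mem (t : K) :
    leafA t (t ^ p ^ n) (t ^ (p ^ n) ^ 2) ∈ twistedD4 K (p ^ n) :=
  (coreD4 K).wordGL_mem_gen (Or.inr ⟨t, (d4p1, d4p3, d4p4), by simp, rfl⟩)

theorem nLeaf_mem : nLeaf ∈ twistedD4 K (p ^ n) := by
  obtain ⟨k02, k03, k23⟩ := d4_commPairs
  obtain ⟨s0, s1, s2, s3, m0, m1, m2, m3⟩ := d4_simples
  have hq1 : (-1 : K) ^ p ^ n = -1 := neg_one_pow_expChar p n
  have hgen : ∀ t : K, t ^ p ^ n = t → ∀ rs ∈ [(d4p1, d4p3, d4p4), (d4m1, d4m3, d4m4)],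
      (coreD4 K).xGL rs.1 t * ((coreD4 K).xGL rs.2.1 t * (coreD4 K).xGL rs.2.2 t) ∈
        twistedD4 K (p ^ n) := by
    intro t ht rs hrs
    have h := (coreD4 K).wordGL_mem_gen (W := d4Words K (p ^ n)) (Or.inr ⟨t, rs, hrs, rfl⟩)
    simp only [ChevCore.wordGL_cons, ChevCore.wordGL_nil, mul_one, frob_sq, ht] at h
    exact h
  have e1 := hgen _ (one_pow _) _ (List.mem_cons_self (a := (d4p1, d4p3, d4p4)))
  have e2 := hgen _ hq1 _ (List.mem_cons_of_mem (d4p1, d4p3, d4p4) (List.mem_singleton_self (d4m1, d4m3, d4m4)))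
  simp only [← s0, ← s2, ← s3] at e1
  simp only [← m0, ← m2, ← m3, ← s0, ← s2, ← s3] at e2
  exact nTriple_mem (coreD4 K) k02 k03 k23 e1 e2

theorem nMid_mem : (coreD4 K).nS (nodeD4 1) ∈ twistedD4 K (p ^ n) := by
  obtain ⟨s0, s1, s2, s3, m0, m1, m2, m3⟩ := d4_simples
  have hq1 : (-1 : K) ^ p ^ n = -1 := neg_one_pow_expChar p n
  have hgen : ∀ t : K, t ^ p ^ n = t → ∀ r ∈ [d4p2, d4m2], (coreD4 K).xGL r t ∈ twistedD4 K (p ^ n) := by
    intro t ht r hr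
    have h := (coreD4 K).wordGL_mem_gen (W := d4Words K (p ^ n)) (Or.inl ⟨t, ht, r, hr, rfl⟩)
    simp only [ChevCore.wordGL_cons, ChevCore.wordGL_nil, mul_one] at h
    exact h
  simp only [ChevCore.nS, nodeD4, nGL_prod, s1, m1, inv_one]
  exact mul_mem (hgen _ (one_pow _) _ (by simp)) (mul_mem (hgen _ hq1 _ (by simp)) (hgen _ (one_pow _) _ (by simp)))

/-- The torus parameters of a unit of the field and of a fixed unit. -/
def torPar (u v : Kˣ) : Fin chevD4.rank → Kˣ := fun j =>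
  [u, v, u ^ p ^ n, (u ^ p ^ n) ^ p ^ n].getD j.val 1

theorem torPar_mem (u v : Kˣ) (hv : v ^ p ^ n = v) :
    (coreD4 K).R.torus (torPar (p := p) (n := n) u v) ∈ twistedD4 K (p ^ n) := by
  obtain ⟨e0, e1, e2, e3⟩ := piD4_vals
  refine fixTorus_leD4 K hn _ (mem_fixTorus.2 fun j => ?_)
  rcases nodeD4_cases j with rfl | rfl | rfl | rfl <;>
    simp only [e0, e1, e2, e3] <;> simp [torPar, nodeD4, hv, unit_pow_cube K hn]

omit hn in
theorem tor_cartan : ∀ j : Fin chevD4.rank, ∀ r ∈ [14, 19, 17, 22, 23],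
    chevD4.cartan j.val r = ([(14, [-1, 2, -1, -1]), (19, [1, 1, -1, -1]), (17, [-1, 0, 1, 1]),
      (22, [1, -1, 1, 1]), (23, [0, 1, 0, 0])] : List (ℕ × List ℤ)).foldr
        (fun x a => if x.1 = r then x.2.getD j.val 0 else a) 0 := by decide +kernel

omit hn in
theorem torPar_char (u v : Kˣ) :
    ((coreD4 K).R.torusChar (torPar (p := p) (n := n) u v) ((coreD4 K).R.α 14) : K) = (v : K) ^ 2 / nm (p ^ n) (u : K) ∧
    ((coreD4 K).R.torusChar (torPar (p := p) (n := n) u v) ((coreD4 K).R.α 19) : K) =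
      (v : K) * ((u : K) / ((u : K) ^ p ^ n * (u : K) ^ (p ^ n) ^ 2)) ∧
    ((coreD4 K).R.torusChar (torPar (p := p) (n := n) u v) ((coreD4 K).R.α 17) : K) =
      (u : K) ^ p ^ n * (u : K) ^ (p ^ n) ^ 2 / (u : K) ∧
    ((coreD4 K).R.torusChar (torPar (p := p) (n := n) u v) ((coreD4 K).R.α 22) : K) = nm (p ^ n) (u : K) / (v : K) ∧
    ((coreD4 K).R.torusChar (torPar (p := p) (n := n) u v) ((coreD4 K).R.α 23) : K) = (v : K) := by
  have T := tor_cartan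
  have hu := u.ne_zero
  have hv := v.ne_zero
  refine ⟨?_, ?_, ?_, ?_, ?_⟩ <;>
  · rw [(coreD4 K).R.torusChar_root _ (by decide), prod_nodeD4, T (nodeD4 0) _ (by simp),
      T (nodeD4 1) _ (by simp), T (nodeD4 2) _ (by simp), T (nodeD4 3) _ (by simp)]
    simp [torPar, nodeD4, nm, frob_sq, zpow_neg] <;> field_simp

end CfsgLib.TrialityDeg
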