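import Cfsg.Agent.Lib.TwistedStr.StrD4
import Cfsg.Agent.Lib.Twisted.Levels

/-!
The radical of the parabolic of ³D₄ belonging to the long root node: coordinates, the action of the
Levi factor and the commutator pairing.
-/

set_option autoImplicit false
set_option linter.unusedSectionVars false

namespace CfsgLib.TrialityDeg

open Cfsg.Lie CfsgLib.ChevStr CfsgLib.Twisted
open scoped MatrixGroups commutatorElement

/-- The roots of the radical. -/
def radL : List ℕ := [14, 19, 16, 15, 17, 20, 21, 22, 23]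

/-- The roots of the coordinates. -/
def radQ : List ℕ := [14, 19, 16, 15, 17, 20, 21, 22]

theorem rad_pos : ∀ r ∈ radL, r < chevD4.nroots ∧ chevD4.IsPosRoot r := by decide +kernel

theorem rad_coef : (∀ r ∈ radL, 1 ≤ rootDataD4.α r ⟨1, by decide⟩) ∧
    ∀ k : Fin chevD4.nroots, 2 ≤ rootDataD4.α k ⟨1, by decide⟩ → (k : ℕ) = 23 := by
  decide +kernel

theorem rad_closed_data : ∀ a ∈ [18, 13, 12], ∀ s ∈ radL, s ≠ chevD4.neg a ∧ a ≠ s ∧ a < chevD4.nroots ∧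
    0 ≤ rootDataD4.α a ⟨1, by decide⟩ := by decide +kernel

theorem rad_root : ∀ r ∈ radL, d4aSym.root r ∈ radL ∧ (r = 23 ↔ d4aSym.root r = 23) := by
  decide +kernel

theorem rad_up : ∀ k : Fin chevD4.nroots, 1 ≤ rootDataD4.α k ⟨1, by decide⟩ → (k : ℕ) ∈ radL := by
  decide +kernel

variable (K : Type*) [Field K]

/-- The set of roots of the radical. -/
abbrev SQ : Set ℕ := listSet radL

/-- The set of roots of its centre. -/
abbrev SZ : Set ℕ := listSet [23]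

theorem radLevel : (coreD4 K).Level SQ SZ := by
  refine ⟨fun r hr => (rad_pos r hr).2, fun r hr => ?_, fun r hr s hs k hk => ?_⟩
  · simp only [listSet, Set.mem_ofPred_eq, List.mem_singleton] at hr
    subst hr
    simp [listSet, radL]
  · obtain ⟨hk', a, b, ha, hb, hab⟩ := hk
    have h := congrFun hab ⟨1, by decide⟩
    simp only [Pi.add_apply, Pi.smul_apply, smul_eq_mul] at h
    have h1 : 1 ≤ (coreD4 K).R.α r ⟨1, by decide⟩ := rad_coef.1 r hr
    have h2 : 1 ≤ (coreD4 K).R.α s ⟨1, by decide⟩ := rad_coef.1 s hs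
    have h3 : k = 23 := rad_coef.2 ⟨k, hk'⟩ (by
      show 2 ≤ (coreD4 K).R.α k ⟨1, by decide⟩
      rw [h]
      have ha' : (1 : ℤ) ≤ a := by omega
      have hb' : (1 : ℤ) ≤ b := by omega
      nlinarith)
    simp [listSet, h3]

theorem radClosed : (coreD4 K).R.IsClosed SQ := (radLevel K).closed

theorem radQ_spec : ∀ r ∈ radQ, r ∈ SQ ∧ r ∉ SZ := by
  intro r hr
  have h : ∀ r ∈ radQ, r ∈ radL ∧ r ∉ [23] := by decide
  exact h r hr

theorem radQ_of {r : ℕ} (hr : r ∈ SQ) (hr' : r ∉ SZ) : r ∈ radQ := by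
  have h : ∀ r ∈ radL, r ∉ [23] → r ∈ radQ := by decide
  exact h r hr hr'

/-- The coordinate at a root of the radical. -/
noncomputable def cr (r : ℕ) (g : GL chevD4.Idx K) : K := (coreD4 K).coord SQ r g

variable {K}

theorem cr_mul {r : ℕ} (hr : r ∈ radQ) {a b : GL chevD4.Idx K} (ha : a ∈ (coreD4 K).Ucl SQ)
    (hb : b ∈ (coreD4 K).Ucl SQ) : cr K r (a * b) = cr K r a + cr K r b :=
  (coreD4 K).coord_mul (radLevel K) (radQ_spec r hr).1 (radQ_spec r hr).2 ha hb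

theorem cr_one {r : ℕ} (hr : r ∈ radQ) : cr K r 1 = 0 :=
  (coreD4 K).coord_of_mem (radLevel K) (radQ_spec r hr).1 (radQ_spec r hr).2 (one_mem _)

theorem cr_inv {r : ℕ} (hr : r ∈ radQ) {a : GL chevD4.Idx K} (ha : a ∈ (coreD4 K).Ucl SQ) :
    cr K r a⁻¹ = - cr K r a := by
  have h := cr_mul hr (inv_mem ha) ha
  rw [inv_mul_cancel, cr_one hr] at h
  linear_combination -h

theorem cr_x {r k : ℕ} (hr : r ∈ radQ) (hk : k ∈ radL) (u : K) :
    cr K r ((coreD4 K).xGL k u) = if k = r then u else 0 := by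
  have h := (coreD4 K).coord_wordGL (radLevel K) (radQ_spec r hr).1 (radQ_spec r hr).2 [(k, u)]
    (by intro p hp; rw [List.mem_singleton] at hp; subst hp; exact hk)
  simp only [ChevCore.wordGL_cons, ChevCore.wordGL_nil, mul_one] at h
  rw [cr, h]
  split_ifs with e <;> simp [e]

/-- Additive functions of the radical are determined by the root elements. -/
theorem cr_ext {φ ψ : GL chevD4.Idx K → K}
    (hφ : ∀ a ∈ (coreD4 K).Ucl SQ, ∀ b ∈ (coreD4 K).Ucl SQ, φ (a * b) = φ a + φ b)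
    (hψ : ∀ a ∈ (coreD4 K).Ucl SQ, ∀ b ∈ (coreD4 K).Ucl SQ, ψ (a * b) = ψ a + ψ b)
    (h : ∀ k ∈ radL, ∀ u : K, φ ((coreD4 K).xGL k u) = ψ ((coreD4 K).xGL k u)) :
    ∀ g ∈ (coreD4 K).Ucl SQ, φ g = ψ g := by
  intro g hg
  have h1 : ∀ θ : GL chevD4.Idx K → K,
      (∀ a ∈ (coreD4 K).Ucl SQ, ∀ b ∈ (coreD4 K).Ucl SQ, θ (a * b) = θ a + θ b) → θ 1 = 0 := by
    intro θ hθ
    have := hθ 1 (one_mem _) 1 (one_mem _)
    rw [one_mul] at this
    linear_combination -this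
  refine (Subgroup.closure_induction
    (p := fun g _ => g ∈ (coreD4 K).Ucl SQ ∧ φ g = ψ g) ?_ ?_ ?_ ?_ hg).2
  · rintro _ ⟨k, hk, u, rfl⟩
    exact ⟨(coreD4 K).xGL_mem_Ucl hk u, h k hk u⟩
  · exact ⟨one_mem _, by rw [h1 φ hφ, h1 ψ hψ]⟩
  · rintro a b - - ⟨ha, ea⟩ ⟨hb, eb⟩
    exact ⟨mul_mem ha hb, by rw [hφ a ha b hb, hψ a ha b hb, ea, eb]⟩
  · rintro a - ⟨ha, ea⟩
    have e1 := hφ _ (inv_mem ha) _ ha
    have e2 := hψ _ (inv_mem ha) _ ha
    rw [inv_mul_cancel, h1 φ hφ] at e1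
    rw [inv_mul_cancel, h1 ψ hψ, ← ea] at e2
    exact ⟨inv_mem ha, by linear_combination e2 - e1⟩

theorem xA_conj_mem {a : ℕ} (ha : a ∈ [18, 13, 12]) (t : K) {g : GL chevD4.Idx K}
    (hg : g ∈ (coreD4 K).Ucl SQ) :
    (coreD4 K).xGL a t * g * ((coreD4 K).xGL a t)⁻¹ ∈ (coreD4 K).Ucl SQ := by
  have hn := (coreD4 K).xGL_mem_normalizer (S := SQ) (r := a) (F := K)
    (rad_closed_data a ha 14 (by simp [radL])).2.2.1 (fun s hs => ⟨(rad_pos s hs).1,
      (rad_closed_data a ha s hs).1, fun k hk => ?_⟩) t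
  · exact (Subgroup.mem_normalizer_iff.1 hn g).1 hg
  · obtain ⟨hk', x, y, hx, hy, hab⟩ := hk
    have h := congrFun hab ⟨1, by decide⟩
    simp only [Pi.add_apply, Pi.smul_apply, smul_eq_mul] at h
    refine rad_up ⟨k, hk'⟩ ?_
    show 1 ≤ (coreD4 K).R.α k ⟨1, by decide⟩
    rw [h]
    have h1 : 0 ≤ (coreD4 K).R.α a ⟨1, by decide⟩ := (rad_closed_data a ha s hs).2.2.2
    have h2 : 1 ≤ (coreD4 K).R.α s ⟨1, by decide⟩ := rad_coef.1 s hs
    have hy' : (1 : ℤ) ≤ y := by omega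
    have := mul_nonneg (Int.natCast_nonneg x) h1
    nlinarith

/-- The linear map of one coordinate under conjugation by a root element. -/
def conjCheck (a k r : ℕ) (c : ℤ) : Bool :=
  radL.all fun s => s != a && s != chevD4.neg a && a != chevD4.neg s &&
    ((chevD4.commTerms s a == [] && (s != r || c == 0)) ||
      ((List.range chevD4.nroots).any fun k' => [(1 : ℤ), -1].any fun z =>
        chevD4.commTerms s a == [(k', z, 1, 1)] && radL.contains k' && a != k' &&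
          a != chevD4.neg k' && chevD4.commTerms k' a == [] &&
          (if k' == k then s == r && c == -z else (s != r || c == 0))))

theorem cr_conjA (a k r : ℕ) (c : ℤ) (ha : a ∈ [18, 13, 12]) (hk : k ∈ radQ) (hr : r ∈ radQ)
    (h : conjCheck a k r c = true) (t : K) {g : GL chevD4.Idx K} (hg : g ∈ (coreD4 K).Ucl SQ) :
    cr K k ((coreD4 K).xGL a t * g * ((coreD4 K).xGL a t)⁻¹) =
      cr K k g + (c : K) * t * cr K r g := by
  refine cr_ext (φ := fun g => cr K k ((coreD4 K).xGL a t * g * ((coreD4 K).xGL a t)⁻¹))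
    (ψ := fun g => cr K k g + (c : K) * t * cr K r g) (fun x hx y hy => ?_) (fun x hx y hy => ?_)
    (fun s hs u => ?_) g hg
  · rw [show (coreD4 K).xGL a t * (x * y) * ((coreD4 K).xGL a t)⁻¹ =
      ((coreD4 K).xGL a t * x * ((coreD4 K).xGL a t)⁻¹) *
        ((coreD4 K).xGL a t * y * ((coreD4 K).xGL a t)⁻¹) by group]
    exact cr_mul hk (xA_conj_mem ha t hx) (xA_conj_mem ha t hy)
  · rw [cr_mul hk hx hy, cr_mul hr hx hy]; ring
  · have han := (rad_closed_data a ha s hs).2.2.1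
    have hsn := (rad_pos s hs).1
    have h' := List.all_eq_true.1 h s hs
    simp only [Bool.and_eq_true, Bool.or_eq_true, List.any_eq_true, List.mem_range, bne_iff_ne,
      beq_iff_eq] at h'
    obtain ⟨⟨⟨h1, -⟩, h2⟩, h3⟩ := h'
    have e := (coreD4 K).xGL_comm hsn han (Ne.symm h1) h2 u t
    rcases h3 with ⟨h4, h5⟩ | ⟨k', hk', z, -, ⟨⟨⟨⟨h4, h5⟩, h6⟩, h7⟩, h8⟩, h9⟩
    · simp only [ChevalleyDatum.commWord, h4, List.map_nil, ChevCore.wordGL_nil, mul_one] at e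
      rw [e, mul_inv_cancel_right, cr_x hk hs, cr_x hr hs]
      by_cases hsr : s = r
      · rcases h5 with h5 | h5
        · exact absurd hsr h5
        · simp [h5]
      · simp [hsr]
    · have hk'L : k' ∈ radL := List.contains_iff_mem.1 h5
      have hcomm := (coreD4 K).xGL_commute hk' han h6 h7 (fun c hc => by simp [h8] at hc) 
      simp only [ChevalleyDatum.commWord, h4, List.map_cons, List.map_nil, ChevCore.wordGL_cons,
        ChevCore.wordGL_nil, mul_one, pow_one] at e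
      rw [e, mul_assoc ((coreD4 K).xGL s u) ((coreD4 K).xGL a t), hcomm _ t]
      rw [mul_assoc ((coreD4 K).xGL s u), mul_inv_cancel_right,
        cr_mul hk ((coreD4 K).xGL_mem_Ucl hs u) ((coreD4 K).xGL_mem_Ucl hk'L _), cr_x hk hs,
        cr_x hk hk'L, cr_x hr hs]
      by_cases hkk : k' = k
      · subst hkk
        simp only [if_true, Bool.and_eq_true, beq_iff_eq] at h9
        simp [h9.1, h9.2]
        ring
      · simp only [if_neg hkk, Bool.or_eq_true, bne_iff_ne, beq_iff_eq] at h9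
        rw [if_neg hkk, add_zero]
        by_cases hsr : s = r
        · rcases h9 with h9 | h9
          · exact absurd hsr h9
          · simp [h9]
        · simp [hsr]

theorem conjA_table : ([(18, 14, 14, 0), (18, 19, 14, -1), (18, 16, 14, 0), (18, 15, 14, 0),
    (18, 17, 14, 0), (18, 20, 15, -1), (18, 21, 16, -1), (18, 22, 17, -1),
    (13, 14, 14, 0), (13, 19, 14, 0), (13, 16, 14, 1), (13, 15, 14, 0), (13, 17, 15, 1),
    (13, 20, 14, 0), (13, 21, 19, 1), (13, 22, 20, 1),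
    (12, 14, 14, 0), (12, 19, 14, 0), (12, 16, 14, 0), (12, 15, 14, 1), (12, 17, 16, 1),
    (12, 20, 19, 1), (12, 21, 14, 0), (12, 22, 21, 1)] : List (ℕ × ℕ × ℕ × ℤ)).all
      (fun x => conjCheck x.1 x.2.1 x.2.2.1 x.2.2.2) = true := by decide +kernel

/-- The product of the leaf root elements with parameters `u`, `u'`, `u''`. -/
noncomputable def leafA (t t' t'' : K) : GL chevD4.Idx K :=
  (coreD4 K).wordGL [(18, t), (13, t'), (12, t'')]

theorem leafA_eq (t t' t'' : K) : leafA t t' t'' =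
    (coreD4 K).xGL 18 t * ((coreD4 K).xGL 13 t' * (coreD4 K).xGL 12 t'') := by
  simp [leafA, ChevCore.wordGL_cons, ChevCore.wordGL_nil]

theorem leafA_conj (t t' t'' : K) (g : GL chevD4.Idx K) : leafA t t' t'' * g * (leafA t t' t'')⁻¹ =
    (coreD4 K).xGL 18 t * ((coreD4 K).xGL 13 t' * ((coreD4 K).xGL 12 t'' * g *
      ((coreD4 K).xGL 12 t'')⁻¹) * ((coreD4 K).xGL 13 t')⁻¹) * ((coreD4 K).xGL 18 t)⁻¹ := by
  rw [leafA_eq]; group

theorem leafA_conj_mem (t t' t'' : K) {g : GL chevD4.Idx K} (hg : g ∈ (coreD4 K).Ucl SQ) :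
    leafA t t' t'' * g * (leafA t t' t'')⁻¹ ∈ (coreD4 K).Ucl SQ := by
  rw [leafA_conj]
  exact xA_conj_mem (by simp) t (xA_conj_mem (by simp) t' (xA_conj_mem (by simp) t'' hg))

theorem leafA_coords (t t' t'' : K) {g : GL chevD4.Idx K} (hg : g ∈ (coreD4 K).Ucl SQ) :
    let h := leafA t t' t'' * g * (leafA t t' t'')⁻¹
    cr K 14 h = cr K 14 g ∧
    cr K 19 h = cr K 19 g - t * cr K 14 g ∧
    cr K 17 h = cr K 17 g + t'' * cr K 16 g + t' * (cr K 15 g + t'' * cr K 14 g) ∧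
    cr K 22 h = cr K 22 g + t'' * cr K 21 g + t' * (cr K 20 g + t'' * cr K 19 g) -
      t * (cr K 17 g + t'' * cr K 16 g + t' * (cr K 15 g + t'' * cr K 14 g)) := by
  intro h
  have T := conjA_table
  simp only [List.all_cons, List.all_nil, Bool.and_eq_true] at T
  obtain ⟨a1, a2, a3, a4, a5, a6, a7, a8, b1, b2, b3, b4, b5, b6, b7, b8, c1, c2, c3, c4, c5, c6, c7, c8, -⟩ := T
  have m2 := xA_conj_mem (K := K) (a := 12) (by simp) t'' hg
  have m1 := xA_conj_mem (K := K) (a := 13) (by simp) t' m2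
  have A := fun {k r : ℕ} {c : ℤ} (x : conjCheck 18 k r c = true) (p : k ∈ radQ) (p' : r ∈ radQ) =>
    cr_conjA (K := K) 18 k r c (by simp) p p' x t m1
  have B := fun {k r : ℕ} {c : ℤ} (x : conjCheck 13 k r c = true) (p : k ∈ radQ) (p' : r ∈ radQ) =>
    cr_conjA (K := K) 13 k r c (by simp) p p' x t' m2
  have C := fun {k r : ℕ} {c : ℤ} (x : conjCheck 12 k r c = true) (p : k ∈ radQ) (p' : r ∈ radQ) =>
    cr_conjA (K := K) 12 k r c (by simp) p p' x t'' hg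
  simp only [h, leafA_conj]
  refine ⟨?_, ?_, ?_, ?_⟩
  · rw [A a1 (by decide) (by decide), B b1 (by decide) (by decide), C c1 (by decide) (by decide)]
    simp
  · rw [A a2 (by decide) (by decide), B b2 (by decide) (by decide), B b1 (by decide) (by decide),
      C c1 (by decide) (by decide), C c2 (by decide) (by decide)]
    push_cast; ring
  · rw [A a5 (by decide) (by decide), B b5 (by decide) (by decide), B b1 (by decide) (by decide),
      C c5 (by decide) (by decide), C c4 (by decide) (by decide), C c1 (by decide) (by decide)]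
    push_cast; ring
  · rw [A a8 (by decide) (by decide), B b8 (by decide) (by decide), B b5 (by decide) (by decide),
      C c8 (by decide) (by decide), C c6 (by decide) (by decide), C c5 (by decide) (by decide),
      C c4 (by decide) (by decide)]
    push_cast; ring

/-- An element permuting root elements scales coordinates. -/
theorem cr_conj_moves {n : GL chevD4.Idx K} {k r : ℕ} (μ : K) (hk : k ∈ radQ) (hr : r ∈ radQ)
    (hmem : ∀ g ∈ (coreD4 K).Ucl SQ, n * g * n⁻¹ ∈ (coreD4 K).Ucl SQ)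
    (h : ∀ s ∈ radL, ∀ u : K, cr K k (n * (coreD4 K).xGL s u * n⁻¹) = if s = r then μ * u else 0)
    {g : GL chevD4.Idx K} (hg : g ∈ (coreD4 K).Ucl SQ) : cr K k (n * g * n⁻¹) = μ * cr K r g := by
  refine cr_ext (φ := fun g => cr K k (n * g * n⁻¹)) (ψ := fun g => μ * cr K r g)
    (fun x hx y hy => ?_) (fun x hx y hy => ?_) (fun s hs u => ?_) g hg
  · rw [show n * (x * y) * n⁻¹ = (n * x * n⁻¹) * (n * y * n⁻¹) by group]
    exact cr_mul hk (hmem x hx) (hmem y hy)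
  · rw [cr_mul hr hx hy]; ring
  · rw [h s hs u, cr_x hr hs]; split_ifs <;> simp

theorem torus_conj_mem (c : Fin chevD4.rank → Kˣ) {g : GL chevD4.Idx K} (hg : g ∈ (coreD4 K).Ucl SQ) :
    (coreD4 K).R.torus c * g * ((coreD4 K).R.torus c)⁻¹ ∈ (coreD4 K).Ucl SQ :=
  (Subgroup.mem_normalizer_iff.1 ((coreD4 K).torus_normalizes SQ ⟨c, rfl⟩) g).1 hg

theorem cr_torus (c : Fin chevD4.rank → Kˣ) {k : ℕ} (hk : k ∈ radQ) {g : GL chevD4.Idx K}
    (hg : g ∈ (coreD4 K).Ucl SQ) :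
    cr K k ((coreD4 K).R.torus c * g * ((coreD4 K).R.torus c)⁻¹) =
      ((coreD4 K).R.torusChar c ((coreD4 K).R.α k) : K) * cr K k g := by
  refine cr_conj_moves _ hk hk (fun g hg => torus_conj_mem c hg) (fun s hs u => ?_) hg
  have hsn := (rad_pos s hs).1
  rw [show (coreD4 K).xGL s u = (coreD4 K).xGL (⟨s, hsn⟩ : Fin chevD4.nroots) u from rfl,
    (coreD4 K).acts_torus c ⟨s, hsn⟩ u, cr_x hk hs]
  split_ifs with e
  · subst e; rfl
  · rfl

theorem d4_refl : ∀ s : Fin chevD4.nroots, (s : ℕ) ∈ radL →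
    ((reflDataD4.sPerm (nodeD4 0) * (reflDataD4.sPerm (nodeD4 2) * reflDataD4.sPerm (nodeD4 3))) s : ℕ) ∈ radL ∧
    ((((reflDataD4.sPerm (nodeD4 0) * (reflDataD4.sPerm (nodeD4 2) * reflDataD4.sPerm (nodeD4 3))) s : ℕ) = 14) ↔ (s : ℕ) = 22) ∧
    ((((reflDataD4.sPerm (nodeD4 0) * (reflDataD4.sPerm (nodeD4 2) * reflDataD4.sPerm (nodeD4 3))) s : ℕ) = 22) ↔ (s : ℕ) = 14) := by
  decide +kernel

theorem d4_refl_c : ∀ h : 22 < chevD4.nroots, (reflDataD4.sPerm (nodeD4 1) ⟨22, h⟩ : ℕ) = 23 := by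
  decide +kernel

/-- The representative of the leaves. -/
noncomputable def nLeaf : GL chevD4.Idx K :=
  (coreD4 K).nS (nodeD4 0) * ((coreD4 K).nS (nodeD4 2) * (coreD4 K).nS (nodeD4 3))

theorem nLeaf_spec : (∀ g ∈ (coreD4 K).Ucl SQ, nLeaf * g * nLeaf⁻¹ ∈ (coreD4 K).Ucl SQ) ∧
    ∃ ε₁ ε₂ : K, ε₁ ≠ 0 ∧ ε₂ ≠ 0 ∧ ∀ g ∈ (coreD4 K).Ucl SQ,
      cr K 22 (nLeaf * g * nLeaf⁻¹) = ε₁ * cr K 14 g ∧
      cr K 14 (nLeaf * g * nLeaf⁻¹) = ε₂ * cr K 22 g := by
  have hA := ChevCore.Acts.mul (coreD4 K) ((coreD4 K).acts_nS (nodeD4 0))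
    (ChevCore.Acts.mul (coreD4 K) ((coreD4 K).acts_nS (nodeD4 2)) ((coreD4 K).acts_nS (nodeD4 3)))
  obtain ⟨-, e, he⟩ := hA
  set w := (coreD4 K).hR.sPerm (nodeD4 0) *
    ((coreD4 K).hR.sPerm (nodeD4 2) * (coreD4 K).hR.sPerm (nodeD4 3))
  have hmem : ∀ g ∈ (coreD4 K).Ucl SQ, nLeaf * g * nLeaf⁻¹ ∈ (coreD4 K).Ucl SQ := by
    intro g hg
    have hle : (coreD4 K).Ucl SQ ≤
        ((coreD4 K).Ucl SQ).comap (MulAut.conj (nLeaf (K := K))).toMonoidHom := by
      refine (coreD4 K).Ucl_le fun r hr t => ?_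
      show nLeaf * (coreD4 K).xGL r t * nLeaf⁻¹ ∈ (coreD4 K).Ucl SQ
      have hrn := (rad_pos r hr).1
      rw [show (coreD4 K).xGL r t = (coreD4 K).xGL (⟨r, hrn⟩ : Fin chevD4.nroots) t from rfl]
      unfold nLeaf
      rw [(he ⟨r, hrn⟩).2.2 t]
      exact (coreD4 K).xGL_mem_Ucl (d4_refl ⟨r, hrn⟩ hr).1 _
    exact hle hg
  have hne : ∀ (s : Fin chevD4.nroots), ((e s : ℤ) : K) ≠ 0 := fun s => by
    rcases (he s).1 with h | h <;> simp [h]
  refine ⟨hmem, _, _, hne ⟨14, by decide⟩, hne ⟨22, by decide⟩, fun g hg => ⟨?_, ?_⟩⟩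
  · refine cr_conj_moves _ (by decide) (by decide) hmem (fun s hs u => ?_) hg
    have hsn := (rad_pos s hs).1
    obtain ⟨d1, d2, d3⟩ := d4_refl ⟨s, hsn⟩ hs
    unfold nLeaf
    rw [show (coreD4 K).xGL s u = (coreD4 K).xGL (⟨s, hsn⟩ : Fin chevD4.nroots) u from rfl,
      (he ⟨s, hsn⟩).2.2 u, cr_x (by decide) (show (w ⟨s, hsn⟩ : ℕ) ∈ radL from d1)]
    by_cases hs14 : s = 14
    · subst hs14
      rw [if_pos (show (w ⟨14, hsn⟩ : ℕ) = 22 from d3.2 rfl), if_pos rfl]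
    · rw [if_neg (show ¬ (w ⟨s, hsn⟩ : ℕ) = 22 from fun h => hs14 (d3.1 h)), if_neg hs14]
  · refine cr_conj_moves _ (by decide) (by decide) hmem (fun s hs u => ?_) hg
    have hsn := (rad_pos s hs).1
    obtain ⟨d1, d2, d3⟩ := d4_refl ⟨s, hsn⟩ hs
    unfold nLeaf
    rw [show (coreD4 K).xGL s u = (coreD4 K).xGL (⟨s, hsn⟩ : Fin chevD4.nroots) u from rfl,
      (he ⟨s, hsn⟩).2.2 u, cr_x (by decide) (show (w ⟨s, hsn⟩ : ℕ) ∈ radL from d1)]
    by_cases hs22 : s = 22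
    · subst hs22
      rw [if_pos (show (w ⟨22, hsn⟩ : ℕ) = 14 from d2.2 rfl), if_pos rfl]
    · rw [if_neg (show ¬ (w ⟨s, hsn⟩ : ℕ) = 14 from fun h => hs22 (d2.1 h)), if_neg hs22]

/-- `x₂₂` is carried to the centre by the reflection at the middle node. -/
theorem nMid_spec : ∃ μ : K, μ ≠ 0 ∧
    (coreD4 K).nS (nodeD4 1) * (coreD4 K).xGL 22 1 * ((coreD4 K).nS (nodeD4 1))⁻¹ =
      (coreD4 K).xGL 23 μ := by
  obtain ⟨-, e, he⟩ := (coreD4 K).acts_nS (nodeD4 1)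
  have h := (he ⟨22, by decide⟩).2.2 1
  rw [show ((coreD4 K).hR.sPerm (nodeD4 1) ⟨22, by decide⟩ : ℕ) = 23 from d4_refl_c _] at h
  refine ⟨_, ?_, h⟩
  rcases (he ⟨22, by decide⟩).1 with h | h <;> simp [h]

theorem centre_check : ∀ r ∈ [18, 13, 12, 5, 10, 11] ++ radL, r ≠ 23 →
    r < chevD4.nroots ∧ (23 : ℕ) ≠ r ∧ (23 : ℕ) ≠ chevD4.neg r ∧ chevD4.commTerms r 23 = [] := by
  decide +kernel

theorem x23_comm {r : ℕ} (hr : r ∈ [18, 13, 12, 5, 10, 11] ++ radL) (t w : K) :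
    Commute ((coreD4 K).xGL 23 w) ((coreD4 K).xGL r t) := by
  by_cases h : r = 23
  · subst h
    exact ((coreD4 K).xGL_add 23 w t).symm.trans (by rw [add_comm, (coreD4 K).xGL_add])
  · obtain ⟨h1, h2, h3, h4⟩ := centre_check r hr h
    exact (coreD4 K).xGL_commute h1 (by decide) h2 h3 (fun c hc => by simp [h4] at hc) t w

theorem x23_comm_Ucl (w : K) {g : GL chevD4.Idx K} (hg : g ∈ (coreD4 K).Ucl SQ) :
    Commute ((coreD4 K).xGL 23 w) g := by
  have hle : (coreD4 K).Ucl SQ ≤ Subgroup.centralizer {(coreD4 K).xGL 23 w} :=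
    (coreD4 K).Ucl_le fun r hr t => Subgroup.mem_centralizer_singleton_iff.2
      (x23_comm (List.mem_append_right _ hr) t w).eq.symm
  exact (Subgroup.mem_centralizer_singleton_iff.1 (hle hg)).symm

theorem x23_comm_nLeaf (w : K) : Commute ((coreD4 K).xGL 23 w) (nLeaf (K := K)) := by
  obtain ⟨s0, s1, s2, s3, m0, m1, m2, m3⟩ := d4_simples
  have h : ∀ a, a ∈ [18, 13, 12, 5, 10, 11] → ∀ t, Commute ((coreD4 K).xGL 23 w) ((coreD4 K).xGL a t) :=
    fun a ha t => x23_comm (List.mem_append_left _ ha) t w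
  simp only [nLeaf, ChevCore.nS, nGL_prod, nodeD4, s0, s2, s3, m0, m2, m3, d4p1, d4p3, d4p4, d4m1,
    d4m3, d4m4]
  refine Commute.mul_right ?_ (Commute.mul_right ?_ ?_) <;>
    refine Commute.mul_right ?_ (Commute.mul_right ?_ ?_) <;> exact h _ (by decide +kernel) _

/-- The commutator pairing of a root element with the radical. -/
theorem comm_pair (r s : ℕ) (z : ℤ) (hr : r ∈ radQ) (hs : s ∈ radQ)
    (hz : chevD4.commTerms r s = [(23, z, 1, 1)])
    (hother : ∀ k ∈ radL, k ≠ s → k = r ∨ (k ≠ chevD4.neg r ∧ chevD4.commTerms r k = []))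
    (hrs : s ≠ r ∧ s ≠ chevD4.neg r) (u : K) {g : GL chevD4.Idx K} (hg : g ∈ (coreD4 K).Ucl SQ) :
    ⁅(coreD4 K).xGL r u, g⁆ = (coreD4 K).xGL 23 ((z : K) * u * cr K s g) := by
  have hrn := (rad_pos r ((radQ_spec r hr).1)).1
  refine (Subgroup.closure_induction (p := fun g _ => g ∈ (coreD4 K).Ucl SQ ∧
    ⁅(coreD4 K).xGL r u, g⁆ = (coreD4 K).xGL 23 ((z : K) * u * cr K s g)) ?_ ?_ ?_ ?_ hg).2
  · rintro _ ⟨k, hk, v, rfl⟩
    refine ⟨(coreD4 K).xGL_mem_Ucl hk v, ?_⟩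
    rw [cr_x hs hk]
    by_cases hks : k = s
    · subst hks
      have e := (coreD4 K).xGL_comm hrn (rad_pos k hk).1 hrs.1 hrs.2 u v
      simp only [ChevalleyDatum.commWord, hz, List.map_cons, List.map_nil, ChevCore.wordGL_cons,
        ChevCore.wordGL_nil, mul_one, pow_one] at e
      rw [if_pos rfl]
      have hc := x23_comm_Ucl ((z : K) * (-u) * v)
        (mul_mem ((coreD4 K).xGL_mem_Ucl hk v) ((coreD4 K).xGL_mem_Ucl (radQ_spec r hr).1 u))
      have e2 : (coreD4 K).xGL r u * (coreD4 K).xGL k v =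
          (coreD4 K).xGL k v * (coreD4 K).xGL r u * (coreD4 K).xGL 23 ((z : K) * u * v) := by
        rw [e, mul_assoc _ _ ((coreD4 K).xGL 23 ((z : K) * u * v)), ← (coreD4 K).xGL_add]
        rw [show (z : K) * -u * v + (z : K) * u * v = 0 by ring, (coreD4 K).xGL_zero, mul_one]
      have hc2 := x23_comm_Ucl ((z : K) * u * v)
        (mul_mem ((coreD4 K).xGL_mem_Ucl hk v) ((coreD4 K).xGL_mem_Ucl (radQ_spec r hr).1 u))
      rw [commutatorElement_def, e2, ← hc2.eq]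
      group
    · rw [if_neg hks, mul_zero, (coreD4 K).xGL_zero, commutatorElement_eq_one_iff_mul_comm]
      rcases hother k hk hks with rfl | ⟨h1, h2⟩
      · rw [← (coreD4 K).xGL_add, ← (coreD4 K).xGL_add, add_comm]
      · by_cases hkr : k = r
        · subst hkr
          rw [← (coreD4 K).xGL_add, ← (coreD4 K).xGL_add, add_comm]
        · exact ((coreD4 K).xGL_commute hrn (rad_pos k hk).1 hkr h1
            (fun c hc => by simp [h2] at hc) u v).symm
  · exact ⟨one_mem _, by rw [cr_one hs, mul_zero, (coreD4 K).xGL_zero, commutatorElement_one_right]⟩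
  · rintro a b - - ⟨ha, ea⟩ ⟨hb, eb⟩
    refine ⟨mul_mem ha hb, ?_⟩
    rw [cr_mul hs ha hb, mul_add, (coreD4 K).xGL_add, ← ea, ← eb,
      show ⁅(coreD4 K).xGL r u, a * b⁆ = ⁅(coreD4 K).xGL r u, a⁆ *
        (a * ⁅(coreD4 K).xGL r u, b⁆ * a⁻¹) by simp only [commutatorElement_def]; group]
    rw [eb, ← (x23_comm_Ucl _ ha).eq, mul_inv_cancel_right]
  · rintro a - ⟨ha, ea⟩
    refine ⟨inv_mem ha, ?_⟩
    rw [cr_inv hs ha, mul_neg, ← (coreD4 K).xGL_inv, ← ea,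
      show ⁅(coreD4 K).xGL r u, a⁻¹⁆ = a⁻¹ * ⁅(coreD4 K).xGL r u, a⁆⁻¹ * a by
        simp only [commutatorElement_def]; group]
    rw [ea, mul_assoc, ((x23_comm_Ucl _ ha).inv_left).eq, inv_mul_cancel_left]

theorem pair_table : ∀ p ∈ ([(14, 22, 1), (22, 14, -1), (19, 17, -1), (16, 20, -1), (15, 21, -1),
    (17, 19, 1), (20, 16, 1), (21, 15, 1)] : List (ℕ × ℕ × ℤ)),
    p.1 ∈ radQ ∧ p.2.1 ∈ radQ ∧ chevD4.commTerms p.1 p.2.1 = [(23, p.2.2, 1, 1)] ∧
      (∀ k ∈ radL, k ≠ p.2.1 → k = p.1 ∨ (k ≠ chevD4.neg p.1 ∧ chevD4.commTerms p.1 k = [])) ∧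
      p.2.1 ≠ p.1 ∧ p.2.1 ≠ chevD4.neg p.1 := by decide +kernel

theorem comm_pair' {r s : ℕ} {z : ℤ} (h : (r, s, z) ∈ ([(14, 22, 1), (22, 14, -1), (19, 17, -1),
    (16, 20, -1), (15, 21, -1), (17, 19, 1), (20, 16, 1), (21, 15, 1)] : List (ℕ × ℕ × ℤ)))
    (u : K) {g : GL chevD4.Idx K} (hg : g ∈ (coreD4 K).Ucl SQ) :
    ⁅(coreD4 K).xGL r u, g⁆ = (coreD4 K).xGL 23 ((z : K) * u * cr K s g) := by
  obtain ⟨h1, h2, h3, h4, h5, h6⟩ := pair_table _ h
  exact comm_pair r s z h1 h2 h3 h4 ⟨h5, h6⟩ u hg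

/-- Commutators of the radical lie in the centre. -/
theorem comm_mem_centre {x y : GL chevD4.Idx K} (hx : x ∈ (coreD4 K).Ucl SQ)
    (hy : y ∈ (coreD4 K).Ucl SQ) : ⁅x, y⁆ ∈ (coreD4 K).Ucl SZ := by
  have hmem : ⁅x, y⁆ ∈ (coreD4 K).Ucl SQ := by
    rw [commutatorElement_def]
    exact mul_mem (mul_mem (mul_mem hx hy) (inv_mem hx)) (inv_mem hy)
  refine (coreD4 K).mem_Ucl_of_coord (radLevel K) hmem fun r hr hr' => ?_
  have hq := radQ_of hr hr'
  show cr K r ⁅x, y⁆ = 0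
  rw [commutatorElement_def, cr_mul hq (mul_mem (mul_mem hx hy) (inv_mem hx)) (inv_mem hy),
    cr_mul hq (mul_mem hx hy) (inv_mem hx), cr_mul hq hx hy, cr_inv hq hx, cr_inv hq hy]
  ring

end CfsgLib.TrialityDeg
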